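import Cfsg.Agent.Lib.Linear.SpOTensor.Ten
import Mathlib.FieldTheory.Finite.Basic

/-!
# Self-adjoint idempotents of an orthogonal space

Orthogonal anisotropic and singular vectors in their images.
-/

set_option autoImplicit false
set_option linter.unusedSectionVars false

namespace Cfsg.Lib.Linear.SpOTensor

open Module
open Cfsg.Lib.Linear

variable {F V U W : Type*} [Field F] [AddCommGroup V] [Module F V] [FiniteDimensional F V]
  [AddCommGroup U] [Module F U] [FiniteDimensional F U]
  [AddCommGroup W] [Module F W] [FiniteDimensional F W]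
  {B : LinearMap.BilinForm F V} {α : LinearMap.BilinForm F U} {β : LinearMap.BilinForm F W}
  {τ : U →ₗ[F] W →ₗ[F] V} {T : Ten B α β τ}

/-- A self-adjoint idempotent. -/
structure Idem (β : LinearMap.BilinForm F W) (e : W →ₗ[F] W) : Prop where
  idem : ∀ w, e (e w) = e w
  symm : ∀ u w, β (e u) w = β u (e w)

theorem Idem.one : Idem β (LinearMap.id : W →ₗ[F] W) := ⟨fun _ => rfl, fun _ _ => rfl⟩

theorem Idem.compl {e : W →ₗ[F] W} (I : Idem β e) : Idem β (LinearMap.id - e) :=
  ⟨fun w => by simp [I.idem], fun u w => by simp [I.symm]⟩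

theorem Idem.rank_compl {e : W →ₗ[F] W} (I : Idem β e) :
    finrank F (LinearMap.range e) + finrank F (LinearMap.range (LinearMap.id - e)) = finrank F W := by
  have h : LinearMap.range (LinearMap.id - e) = LinearMap.ker e := by
    refine le_antisymm ?_ fun w hw => ⟨w, ?_⟩
    · rintro _ ⟨w, rfl⟩
      simp [LinearMap.mem_ker, I.idem]
    · simp [LinearMap.mem_ker.1 hw]
  rw [h]
  exact e.finrank_range_add_finrank_ker

/-- A non-zero idempotent fixes an anisotropic vector. -/
theorem Idem.exists_aniso (T : Ten B α β τ) {e : W →ₗ[F] W} (I : Idem β e)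
    (h : 0 < finrank F (LinearMap.range e)) : ∃ a, e a = a ∧ β a a ≠ 0 := by
  by_contra hc
  push Not at hc
  have hz : ∀ w, β (e w) (e w) = 0 := fun w => hc _ (I.idem w)
  have he : e = 0 := LinearMap.ext fun u => T.β_ext fun w => by
    have h1 := hz (u + w)
    rw [map_add, map_add, map_add, LinearMap.add_apply, LinearMap.add_apply, hz, hz,
      T.sβ (e w) (e u)] at h1
    have h2 : β (e u) (e w) = 0 := (mul_eq_zero.1 (show (2 : F) * β (e u) (e w) = 0 by
      linear_combination h1)).resolve_left T.h2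
    rw [← I.symm, I.idem] at h2
    rw [h2, LinearMap.zero_apply, map_zero, LinearMap.zero_apply]
  rw [he, LinearMap.range_zero, finrank_bot] at h
  omega

/-- Removing an anisotropic vector. -/
theorem Idem.drop (T : Ten B α β τ) {e : W →ₗ[F] W} (I : Idem β e) {a : W} (hea : e a = a)
    (ha : β a a ≠ 0) :
    ∃ e' : W →ₗ[F] W, Idem β e' ∧ (∀ w, e (e' w) = e' w) ∧ (∀ w, β (e' w) a = 0) ∧
      (∀ v, e v = v → β v a = 0 → e' v = v) ∧ finrank F (LinearMap.range e) ≤ finrank F (LinearMap.range e') + 1 := by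
  let p : W →ₗ[F] W := (β.flip ((β a a)⁻¹ • a)).smulRight a
  have hp : ∀ w, p w = ((β a a)⁻¹ * β w a) • a := fun w => by simp [p]
  have hwa : ∀ w, β (e w) a = β w a := fun w => by rw [I.symm, hea]
  refine ⟨e - p, ⟨fun w => ?_, fun u w => ?_⟩, fun w => ?_, fun w => ?_, fun v hv hva => ?_, ?_⟩
  · simp only [LinearMap.sub_apply, hp, map_sub, map_smul, I.idem, hea, hwa,
      LinearMap.smul_apply, smul_eq_mul]
    match_scalars <;> field_simp <;> ring
  · simp only [LinearMap.sub_apply, hp, map_sub, map_smul, LinearMap.smul_apply, smul_eq_mul,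
      I.symm, T.sβ a w]
    ring
  · simp only [LinearMap.sub_apply, hp, map_sub, map_smul, I.idem, hea]
  · simp only [LinearMap.sub_apply, hp, map_sub, map_smul, LinearMap.sub_apply,
      LinearMap.smul_apply, smul_eq_mul, hwa]
    field_simp
    ring
  · rw [LinearMap.sub_apply, hv, hp, hva, mul_zero, zero_smul, sub_zero]
  · have hle : LinearMap.range e ≤ LinearMap.range (e - p) ⊔ Submodule.span F {a} := by
      rintro _ ⟨w, rfl⟩
      rw [show e w = (e - p) w + p w by simp]
      refine Submodule.add_mem_sup ⟨w, rfl⟩ ?_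
      rw [hp]
      exact Submodule.smul_mem _ _ (Submodule.mem_span_singleton_self a)
    refine (Submodule.finrank_mono hle).trans ((Submodule.finrank_add_le_finrank_add_finrank _ _).trans ?_)
    have hne : a ≠ 0 := fun h => ha (by simp [h])
    rw [finrank_span_singleton hne]

/-- A singular vector in a space of dimension at least three. -/
theorem Idem.exists_singular [Fintype F] (T : Ten B α β τ) {e : W →ₗ[F] W} (I : Idem β e)
    (h : 3 ≤ finrank F (LinearMap.range e)) : ∃ n, e n = n ∧ n ≠ 0 ∧ β n n = 0 := by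
  obtain ⟨a, hea, ha⟩ := I.exists_aniso T (by omega)
  obtain ⟨e₁, I₁, h11, h1a, -, hr1⟩ := I.drop T hea ha
  obtain ⟨b, heb, hb⟩ := I₁.exists_aniso T (by omega)
  obtain ⟨e₂, I₂, h22, h2b, -, hr2⟩ := I₁.drop T heb hb
  obtain ⟨c, hec, hc⟩ := I₂.exists_aniso T (by omega)
  have hba : β b a = 0 := by rw [← heb]; exact h1a _
  have hec1 : e₁ c = c := by rw [← hec]; exact h22 _
  have hca : β c a = 0 := by rw [← hec1]; exact h1a _
  have hcb : β c b = 0 := by rw [← hec]; exact h2b _
  have hchar : ringChar F ≠ 2 := fun hc2 => T.h2 (by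
    have h0 : ((2 : ℕ) : F) = 0 := hc2 ▸ ringChar.Nat.cast_ringChar
    exact_mod_cast h0)
  obtain ⟨s, t, hst⟩ := FiniteField.exists_root_sum_quadratic
    (f := Polynomial.C (β a a) * Polynomial.X ^ 2)
    (g := Polynomial.C (β b b) * Polynomial.X ^ 2 + Polynomial.C (β c c))
    (Polynomial.degree_C_mul_X_pow 2 ha)
    (by
      rw [Polynomial.degree_add_eq_left_of_degree_lt, Polynomial.degree_C_mul_X_pow 2 hb]
      · rfl
      · rw [Polynomial.degree_C_mul_X_pow 2 hb]
        exact Polynomial.degree_C_le.trans_lt (by exact_mod_cast two_pos))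
    (FiniteField.odd_card_of_char_ne_two hchar)
  simp only [Polynomial.eval_add, Polynomial.eval_mul, Polynomial.eval_C, Polynomial.eval_pow,
    Polynomial.eval_X] at hst
  refine ⟨s • a + t • b + c, ?_, fun hn => hc ?_, ?_⟩
  · have heb' : e b = b := by rw [← heb]; exact h11 _
    have hec' : e c = c := by rw [← hec1]; exact h11 _
    simp [hea, heb', hec']
  · have h1 := congrArg (fun w => β w c) hn
    simpa [T.sβ a c, hca, T.sβ b c, hcb] using h1
  · simp [T.sβ a b, hba, T.sβ a c, hca, T.sβ b c, hcb]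
    linear_combination hst

end Cfsg.Lib.Linear.SpOTensor
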