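import Cfsg.Agent.Lib.Linear.SpOTensor.Shape
import Cfsg.Agent.Lib.Linear.SpOTensor.Idem
import Cfsg.Agent.Lib.Linear.SymplecticMax

/-!
# A non-scalar long coefficient gives all transvections

The coefficients of long elements are closed under the operations coming from the products, so
they contain a rank one map with singular vector; its transvections generate.
-/

set_option autoImplicit false
set_option linter.unusedSectionVars false

namespace Cfsg.Lib.Linear.SpOTensor

open Module
open Cfsg.Lib.Linear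

/-- Three proper subspaces do not cover, in odd characteristic. -/
theorem exists_not_mem_three {F M : Type*} [Field F] [AddCommGroup M] [Module F M] (h2 : (2 : F) ≠ 0)
    (K : Fin 3 → Submodule F M) (h : ∀ i, K i ≠ ⊤) : ∃ x, ∀ i, x ∉ K i := by
  have hex : ∀ i, ∃ x, x ∉ K i := fun i => by
    by_contra hc
    push Not at hc
    exact h i (eq_top_iff.2 fun x _ => hc x)
  obtain ⟨a₁, h₁⟩ := hex 0
  obtain ⟨a₂, h₂⟩ := hex 1
  obtain ⟨a, ha0, ha1⟩ : ∃ a, a ∉ K 0 ∧ a ∉ K 1 := by
    by_cases e1 : a₁ ∈ K 1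
    · by_cases e2 : a₂ ∈ K 0
      · exact ⟨a₁ + a₂, fun e => h₁ ((Submodule.add_mem_iff_left _ e2).1 e),
          fun e => h₂ ((Submodule.add_mem_iff_right _ e1).1 e)⟩
      · exact ⟨a₂, e2, h₂⟩
    · exact ⟨a₁, h₁, e1⟩
  by_cases ha2 : a ∈ K 2
  swap
  · exact ⟨a, fun i => by fin_cases i <;> assumption⟩
  obtain ⟨b, hb⟩ := hex 2
  have huniq : ∀ i, a ∉ K i → ∀ s t : F, b + s • a ∈ K i → b + t • a ∈ K i → s = t := by
    intro i hi s t hs ht
    by_contra hne
    refine hi ((Submodule.smul_mem_iff _ (sub_ne_zero.2 hne)).1 ?_)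
    have := sub_mem hs ht
    rwa [add_sub_add_left_eq_sub, ← sub_smul] at this
  have hb' : ∀ t : F, b + t • a ∉ K 2 := fun t e =>
    hb ((Submodule.add_mem_iff_left _ (Submodule.smul_mem _ t ha2)).1 e)
  have h1 : (1 : F) ≠ -1 := fun e => h2 (by linear_combination e)
  obtain ⟨t, ht0, ht1⟩ : ∃ t : F, b + t • a ∉ K 0 ∧ b + t • a ∉ K 1 := by
    by_contra hc
    push Not at hc
    by_cases e0 : b + (0 : F) • a ∈ K 0
    · have u1 := hc 1 fun e => one_ne_zero (huniq 0 ha0 _ _ e e0)
      have u2 := hc (-1) fun e => neg_ne_zero.2 one_ne_zero (huniq 0 ha0 _ _ e e0)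
      exact h1 (huniq 1 ha1 _ _ u1 u2)
    · by_cases e1 : b + (1 : F) • a ∈ K 0
      · have u1 := hc 0 e0
        have u2 := hc (-1) fun e => h1 (huniq 0 ha0 _ _ e1 e)
        exact neg_ne_zero.2 one_ne_zero (huniq 1 ha1 _ _ u2 u1)
      · exact one_ne_zero (huniq 1 ha1 _ _ (hc 1 e1) (hc 0 e0))
  exact ⟨b + t • a, fun i => by fin_cases i <;> first | exact ht0 | exact ht1 | exact hb' t⟩

variable {F V U W : Type*} [Field F] [AddCommGroup V] [Module F V] [FiniteDimensional F V]
  [AddCommGroup U] [Module F U] [FiniteDimensional F U]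
  [AddCommGroup W] [Module F W] [FiniteDimensional F W]
  {B : LinearMap.BilinForm F V} {α : LinearMap.BilinForm F U} {β : LinearMap.BilinForm F W}
  {τ : U →ₗ[F] W →ₗ[F] V} {T : Ten B α β τ} {L : Subgroup (V ≃ₗ[F] V)}

/-- The map `w ↦ β w a • b + β w b • a`. -/
noncomputable def sm (β : LinearMap.BilinForm F W) (a b : W) : Module.End F W :=
  (β.flip a).smulRight b + (β.flip b).smulRight a

theorem sm_apply (β : LinearMap.BilinForm F W) (a b w : W) :
    sm β a b w = β w a • b + β w b • a := by simp [sm]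

theorem sm_comm (β : LinearMap.BilinForm F W) (a b : W) : sm β a b = sm β b a := add_comm _ _

/-- The coefficient is the one of a long element at every line. -/
def Co (T : Ten B α β τ) (L : Subgroup (V ≃ₗ[F] V)) (φ : Module.End F W) : Prop :=
  ∀ x : U, ∃ g ∈ L, ∀ v, g v = v + τ x (φ (T.ctr x v))

namespace Over

variable (hL : Over T L)
include hL

theorem co_zero : Co T L 0 := fun _ => ⟨1, one_mem _, fun v => by simp⟩

theorem co_add {φ ψ : Module.End F W} (h : Co T L φ) (h' : Co T L ψ) : Co T L (φ + ψ) := fun x => by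
  obtain ⟨g, hg, hgv⟩ := h x
  obtain ⟨g', hg', hgv'⟩ := h' x
  refine ⟨g * g', mul_mem hg hg', fun v => ?_⟩
  rw [LinearEquiv.mul_apply, hgv', hgv]
  simp only [map_add, T.ctr_tau, T.α_self, zero_smul, add_zero, LinearMap.add_apply]
  abel

theorem co_neg {φ : Module.End F W} (h : Co T L φ) : Co T L (-φ) := fun x => by
  obtain ⟨g, hg, hgv⟩ := h x
  refine ⟨g⁻¹, inv_mem hg, fun v => g.injective ?_⟩
  rw [T.act_inv, hgv]
  simp [T.ctr_tau, T.α_self]

theorem co_sq (t : F) {φ : Module.End F W} (h : Co T L φ) : Co T L ((t * t) • φ) := fun x => by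
  obtain ⟨g, hg, hgv⟩ := h (t • x)
  exact ⟨g, hg, fun v => by simp [hgv, smul_smul]⟩

theorem co_smul (c : F) {φ : Module.End F W} (h : Co T L φ) : Co T L (c • φ) := by
  have e : c • φ = ((c + 1) / 2 * ((c + 1) / 2)) • φ + -(((c - 1) / 2 * ((c - 1) / 2)) • φ) := by
    rw [← sub_eq_add_neg, ← sub_smul]
    congr 1
    field_simp [T.h2]
    ring
  rw [e]
  exact hL.co_add (hL.co_sq _ h) (hL.co_neg (hL.co_sq _ h))

theorem co_sub {φ ψ : Module.End F W} (h : Co T L φ) (h' : Co T L ψ) : Co T L (φ - ψ) := by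
  rw [sub_eq_add_neg]
  exact hL.co_add h (hL.co_neg h')

theorem co_refl {a : W} (ha : β a a ≠ 0) {φ : Module.End F W} (h : Co T L φ) :
    Co T L (refl β a ∘ₗ φ ∘ₗ refl β a) := fun x => by
  obtain ⟨g, hg, hgv⟩ := h x
  obtain ⟨r, hr, hrv⟩ := hL.exists_refl ha
  have hctr : ∀ u v, T.ctr u (r v) = refl β a (T.ctr u v) := fun u v =>
    LinearMap.congr_fun (T.hom_ext (f := T.ctr u ∘ₗ (r : V →ₗ[F] V))
      (g := refl β a ∘ₗ T.ctr u) fun b w => by simp [hrv, T.ctr_tau]) v
  refine ⟨r * g * r, mul_mem (mul_mem hr hg) hr, fun v => ?_⟩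
  have rr : r (r v) = v := LinearMap.congr_fun (T.hom_ext
    (f := (r : V →ₗ[F] V) ∘ₗ (r : V →ₗ[F] V)) (g := LinearMap.id) fun b w => by
      simp [hrv, T.refl_refl ha]) v
  rw [LinearEquiv.mul_apply, LinearEquiv.mul_apply, hgv, map_add, rr, hrv, hctr,
    LinearMap.comp_apply, LinearMap.comp_apply]

theorem co_of_long {x : U} (hx : x ≠ 0) {φ : Module.End F W} {g : V ≃ₗ[F] V} (hg : g ∈ L)
    (hgv : ∀ v, g v = v + τ x (φ (T.ctr x v))) : Co T L φ := fun y => by
  by_cases hy : y = 0
  · exact ⟨1, one_mem _, fun v => by simp [hy]⟩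
  obtain ⟨s, hs, hsx⟩ := Symp.exists_iso_vec T.nα T.aα hx hy
  have hsi : s ∈ Symp.iso α := Symp.T_le_iso T.aα ⊥ hs
  obtain ⟨h, hh, hhv⟩ := hL.exists_left s.toLinearMap fun u v => hsi u v
  have hc : ∀ v, T.ctr y (h v) = T.ctr x v := fun v =>
    LinearMap.congr_fun (T.hom_ext (f := T.ctr y ∘ₗ (h : V →ₗ[F] V)) (g := T.ctr x) fun b w => by
      simp [hhv, T.ctr_tau, ← hsx, hsi b x]) v
  refine ⟨h * g * h⁻¹, mul_mem (mul_mem hh hg) (inv_mem hh), fun v => ?_⟩
  rw [LinearEquiv.mul_apply, LinearEquiv.mul_apply, hgv, map_add, hhv, T.act_inv,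
    LinearEquiv.coe_coe, hsx, ← hc, T.act_inv]

/-- A long coefficient is self-adjoint. -/
theorem co_symm {φ : Module.End F W} (h : Co T L φ) {x : U} (hx : x ≠ 0) (a b : W) :
    β (φ a) b = β a (φ b) := by
  obtain ⟨g, hg, hgv⟩ := h x
  obtain ⟨z, hz⟩ := T.exists_one hx
  have h1 := hL.le hg (τ z a) (τ z b)
  simp only [hgv, T.ctr_tau, hz, one_smul, map_add, LinearMap.add_apply, T.pair, T.α_self,
    T.α_symm x z] at h1
  linear_combination -h1

theorem sm_refl {d : W} (hd : β d d ≠ 0) (a b : W) :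
    refl β d ∘ₗ sm β a b ∘ₗ refl β d = sm β (refl β d a) (refl β d b) :=
  LinearMap.ext fun w => by
    have hr : ∀ u v, β (refl β d u) v = β u (refl β d v) := fun u v => by
      conv_lhs => rw [← T.refl_refl hd v, T.refl_iso hd]
    simp only [LinearMap.comp_apply, sm_apply, map_add, map_smul, hr]

/-- Replacing the first vector by one not orthogonal to it. -/
theorem co_swap {a b d : W} (h : Co T L (sm β a b)) (hd : β d d ≠ 0) (hbd : β b d = 0)
    (had : β a d ≠ 0) : Co T L (sm β d b) := by
  have h1 := hL.co_refl hd h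
  rw [hL.sm_refl hd, refl_apply β d b, hbd, mul_zero, zero_smul, sub_zero] at h1
  have e : sm β d b = (2 / β d d * β a d)⁻¹ • (sm β a b - sm β (refl β d a) b) := by
    refine LinearMap.ext fun w => ?_
    simp only [LinearMap.smul_apply, LinearMap.sub_apply, sm_apply, refl_apply, map_sub, map_smul,
      smul_eq_mul]
    have := T.h2
    match_scalars <;> field_simp <;> ring
  rw [e]
  exact hL.co_smul _ (hL.co_sub h h1)

/-- A singular second vector gives a rank one coefficient. -/
theorem co_square {a b : W} (h : Co T L (sm β a b)) (ha : β a a ≠ 0) (hab : β a b = 0)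
    (hb : β b b = 0) : Co T L ((β.flip b).smulRight b) := by
  have hba : β b a = 0 := by rw [T.sβ, hab]
  have h1 := hL.co_swap h (d := a + b) (by simpa [hab, hba, hb] using ha) (by simp [hba, hb])
    (by simpa [hab] using ha)
  have e : (β.flip b).smulRight b = (2 : F)⁻¹ • (sm β (a + b) b - sm β a b) := by
    refine LinearMap.ext fun w => ?_
    have := T.h2
    simp only [LinearMap.smul_apply, LinearMap.sub_apply, sm_apply, map_add,
      LinearMap.smulRight_apply, LinearMap.BilinForm.flip_apply, LinearMap.flip_apply]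
    match_scalars <;> field_simp <;> ring
  rw [e]
  exact hL.co_smul _ (hL.co_sub h1 h)

variable [Fintype F] (hk : 3 ≤ finrank F W) (hq : Nat.card F = 3 → 4 ≤ finrank F W)
include hk hq

/-- With orthogonal anisotropic vectors the first one is arbitrary. -/
theorem co_full {a b : W} (h : Co T L (sm β a b)) (ha : β a a ≠ 0) (hb : β b b ≠ 0)
    (hab : β a b = 0) {v : W} (hv : β v b = 0) : Co T L (sm β v b) := by
  classical
  have hba : β b a = 0 := by rw [T.sβ, hab]
  have key : ∀ u, β u b = 0 → β u a = 0 → β u u ≠ -β a a → Co T L (sm β u b) := by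
    intro u hub hua hu
    have hau : β a u = 0 := by rw [T.sβ, hua]
    have hbu : β b u = 0 := by rw [T.sβ, hub]
    have h1 := hL.co_swap h (d := a + u)
      (by simpa [hau, hua, add_eq_zero_iff_eq_neg'] using hu)
      (by simp [hba, hbu]) (by simpa [hau] using ha)
    rw [show sm β u b = sm β (a + u) b - sm β a b from LinearMap.ext fun w => by
      simp only [LinearMap.sub_apply, sm_apply, map_add]; module]
    exact hL.co_sub h1 h
  have perp : ∀ u, β u b = 0 → β u a = 0 → Co T L (sm β u b) := by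
    intro u hub hua
    by_cases hu : β u u = -β a a
    swap
    · exact key u hub hua hu
    by_cases ht : ∃ t : F, t ≠ 0 ∧ t * t ≠ 1
    · obtain ⟨t, ht0, ht1⟩ := ht
      have h1 := key (t • u) (by simp [hub]) (by simp [hua]) (by
        simp only [map_smul, LinearMap.smul_apply, smul_eq_mul, hu]
        intro e
        exact ht1 (sub_eq_zero.1 ((mul_eq_zero.1 (show (t * t - 1) * -β a a = 0 by
          linear_combination e)).resolve_right (neg_ne_zero.2 ha))))
      have e : sm β u b = t⁻¹ • sm β (t • u) b := LinearMap.ext fun w => by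
        simp only [LinearMap.smul_apply, sm_apply, map_smul, smul_eq_mul]
        match_scalars <;> field_simp
      rw [e]
      exact hL.co_smul _ h1
    push Not at ht
    have hcard : Nat.card F = 3 := by
      have hu3 : (Finset.univ : Finset F) = {0, 1, -1} := Finset.eq_of_subset_of_card_le
        (fun t _ => by
          simp only [Finset.mem_insert, Finset.mem_singleton]
          rcases eq_or_ne t 0 with e | e
          · exact Or.inl e
          · exact Or.inr (mul_self_eq_one_iff.1 (ht t e)))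
        (Finset.card_le_univ _)
      have h1 : (1 : F) ≠ -1 := fun e => T.h2 (by linear_combination e)
      rw [Nat.card_eq_fintype_card, ← Finset.card_univ, hu3, Finset.card_insert_of_notMem (by simp),
        Finset.card_pair h1]
    have h4 := hq hcard
    have hu0 : β u u ≠ 0 := by rw [hu]; exact neg_ne_zero.2 ha
    obtain ⟨e₁, I₁, h11, h1a, h1f, hr1⟩ := Idem.one.drop T (a := a) rfl ha
    have heb : e₁ b = b := h1f b rfl hba
    obtain ⟨e₂, I₂, h22, h2b, h2f, hr2⟩ := I₁.drop T heb hb
    have heu : e₂ u = u := h2f u (h1f u rfl hua) hub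
    obtain ⟨e₃, I₃, h33, h3u, -, hr3⟩ := I₂.drop T heu hu0
    rw [LinearMap.range_id, finrank_top] at hr1
    obtain ⟨c, hc, hcc⟩ := I₃.exists_aniso T (by omega)
    have hc2 : e₂ c = c := by rw [← hc]; exact h33 _
    have hc1 : e₁ c = c := by rw [← hc2]; exact h22 _
    have hcu : β c u = 0 := by rw [← hc]; exact h3u _
    have hcb : β c b = 0 := by rw [← hc2]; exact h2b _
    have hca : β c a = 0 := by rw [← hc1]; exact h1a _
    have huc : β u c = 0 := by rw [T.sβ, hcu]
    have k1 := key (u + c) (by simp [hub, hcb]) (by simp [hua, hca])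
      (by simp [hu, huc, hcu, hcc])
    have k2 := key (u - c) (by simp [hub, hcb]) (by simp [hua, hca])
      (by simp [hu, huc, hcu, hcc])
    have e : sm β u b = (2 : F)⁻¹ • (sm β (u + c) b + sm β (u - c) b) := LinearMap.ext fun w => by
      have := T.h2
      simp only [LinearMap.smul_apply, LinearMap.add_apply, sm_apply, map_add, map_sub]
      match_scalars <;> field_simp <;> ring
    rw [e]
    exact hL.co_smul _ (hL.co_add k1 k2)
  have h1 := perp (v - (β v a / β a a) • a) (by simp [hv, hab]) (by simp [ha])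
  have e : sm β v b = sm β (v - (β v a / β a a) • a) b + (β v a / β a a) • sm β a b :=
    LinearMap.ext fun w => by
      simp only [LinearMap.smul_apply, LinearMap.add_apply, sm_apply, map_sub, map_smul, smul_eq_mul]
      module
  rw [e]
  exact hL.co_add h1 (hL.co_smul _ h)

/-- A non-scalar coefficient gives a rank one coefficient with singular vector. -/
theorem exists_square {φ : Module.End F W} (h : Co T L φ) {x : U} (hx : x ≠ 0)
    (hφ : ¬ ∃ t : F, φ = t • 1) :
    ∃ n : W, n ≠ 0 ∧ β n n = 0 ∧ Co T L ((β.flip n).smulRight n) := by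
  classical
  obtain ⟨a, ha, hne⟩ : ∃ a, β a a ≠ 0 ∧ ∃ w, φ (refl β a w) ≠ refl β a (φ w) := by
    by_contra hc
    push Not at hc
    exact hφ (T.scalar_of_comm hk hc)
  set b := φ a - (β (φ a) a / β a a) • a with hbdef
  have hba : β b a = 0 := by simp [b, ha]
  have hab : β a b = 0 := by rw [T.sβ, hba]
  have hsw : ∀ w, β (φ w) a = β w (φ a) := fun w => hL.co_symm h hx w a
  have hd : ∀ w, φ w - refl β a (φ (refl β a w)) = (2 / β a a) • sm β a b w := fun w => by
    simp only [refl_apply, map_sub, map_smul, sm_apply, hbdef, LinearMap.sub_apply,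
      LinearMap.smul_apply, smul_eq_mul, hsw w]
    match_scalars <;> field_simp <;> ring
  have hb0 : b ≠ 0 := by
    intro e
    obtain ⟨w, hw⟩ := hne
    have h1 := hd (refl β a w)
    rw [T.refl_refl ha, sm_apply, e, map_zero, smul_zero, zero_smul, add_zero, smul_zero,
      sub_eq_zero] at h1
    exact hw h1
  have hsm : Co T L (sm β a b) := by
    have e : sm β a b = (2 / β a a)⁻¹ • (φ - refl β a ∘ₗ φ ∘ₗ refl β a) := LinearMap.ext fun w => by
      rw [LinearMap.smul_apply, LinearMap.sub_apply, LinearMap.comp_apply, LinearMap.comp_apply, hd,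
        smul_smul, inv_mul_cancel₀ (div_ne_zero T.h2 ha), one_smul]
    rw [e]
    exact hL.co_smul _ (hL.co_sub h (hL.co_refl ha h))
  by_cases hb : β b b = 0
  · exact ⟨b, hb0, hb, hL.co_square hsm ha hab hb⟩
  obtain ⟨e₁, I₁, h11, h1a, h1f, hr1⟩ := Idem.one.drop T (a := a) rfl ha
  have heb : e₁ b = b := h1f b rfl hba
  obtain ⟨e₂, I₂, h22, h2b, -, hr2⟩ := I₁.drop T heb hb
  rw [LinearMap.range_id, finrank_top] at hr1
  obtain ⟨d, hde, hdd⟩ := I₂.exists_aniso T (by omega)
  have hd1 : e₁ d = d := by rw [← hde]; exact h22 _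
  have hdb : β d b = 0 := by rw [← hde]; exact h2b _
  have hda : β d a = 0 := by rw [← hd1]; exact h1a _
  have had : β a d = 0 := by rw [T.sβ, hda]
  have hbd : β b d = 0 := by rw [T.sβ, hdb]
  have hchar : ringChar F ≠ 2 := fun hc2 => T.h2 (by
    have h0 : ((2 : ℕ) : F) = 0 := hc2 ▸ ringChar.Nat.cast_ringChar
    exact_mod_cast h0)
  obtain ⟨s, t, hst⟩ := FiniteField.exists_root_sum_quadratic
    (f := Polynomial.C (β a a) * Polynomial.X ^ 2)
    (g := Polynomial.C (β d d) * Polynomial.X ^ 2 + Polynomial.C (β b b))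
    (Polynomial.degree_C_mul_X_pow 2 ha)
    (by
      rw [Polynomial.degree_add_eq_left_of_degree_lt, Polynomial.degree_C_mul_X_pow 2 hdd]
      · rfl
      · rw [Polynomial.degree_C_mul_X_pow 2 hdd]
        exact Polynomial.degree_C_le.trans_lt (by exact_mod_cast two_pos))
    (FiniteField.odd_card_of_char_ne_two hchar)
  simp only [Polynomial.eval_add, Polynomial.eval_mul, Polynomial.eval_C, Polynomial.eval_pow,
    Polynomial.eval_X] at hst
  set c := s • a + t • d with hc
  set a' := (-(t * β d d)) • a + (s * β a a) • d with ha'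
  have hn : β (b + c) (b + c) = 0 := by
    simp [hc, hab, hba, had, hda, hbd, hdb]
    linear_combination hst
  have ha'b : β a' b = 0 := by simp [ha', hab, hdb]
  have ha'a' : β a' a' ≠ 0 := by
    have e : β a' a' = -(β a a * β b b * β d d) := by
      simp [ha', had, hda]
      linear_combination β a a * β d d * hst
    rw [e]
    exact neg_ne_zero.2 (mul_ne_zero (mul_ne_zero ha hb) hdd)
  have ha'n : β (b + c) a' = 0 := by
    simp [hc, ha', hab, hba, had, hda, hbd, hdb]
    ring
  have hn0 : b + c ≠ 0 := fun e => hb (by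
    have h1 := congrArg (fun w => β w b) e
    simpa [hc, hab, hdb] using h1)
  have h1 := hL.co_full hk hq hsm ha hb hab ha'b
  rw [sm_comm] at h1
  have h2 := hL.co_full hk hq h1 hb ha'a' (by rw [T.sβ]; exact ha'b) ha'n
  rw [sm_comm] at h2
  exact ⟨b + c, hn0, hn, hL.co_square h2 ha'a' (by rw [T.sβ]; exact ha'n) hn⟩

/-- A non-scalar coefficient forces the whole group. -/
theorem eq_top_of_not_losing (hlose : ¬ Losing T L) : L = Symp.iso B := by
  classical
  obtain ⟨x₀, φ, g, hx₀, hg, hgv, hφ⟩ : ∃ (x : U) (φ : W →ₗ[F] W) (g : V ≃ₗ[F] V),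
      x ≠ 0 ∧ g ∈ L ∧ (∀ v, g v = v + τ x (φ (T.ctr x v))) ∧ ¬ ∃ t : F, φ = t • 1 := by
    by_contra hc
    exact hlose fun x φ g hx hg hgv => by
      by_contra hn
      exact hc ⟨x, φ, g, hx, hg, hgv, hn⟩
  obtain ⟨n, hn0, hnn, hn⟩ := hL.exists_square hk hq (hL.co_of_long hx₀ hg hgv) hx₀ hφ
  set C := Symp.centres T.aB L with hC
  have hs : ∀ {v : V}, v ∈ C → ∀ k : F, k • v ∈ C := fun hv k c => by
    rw [Symp.tv_smul]; exact hv _
  have hj : ∀ {v w : V}, v ∈ C → w ∈ C → B v w ≠ 0 → v + w ∈ C := fun {v w} hv hw h => by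
    have h1 := Symp.centres_invariant T.aB hL.le (hv ((B w v)⁻¹)) hw
    have hwv : B w v ≠ 0 := by rw [T.B_symm]; exact neg_ne_zero.2 h
    rwa [Symp.tv_apply, inv_mul_cancel₀ hwv, one_smul, add_comm] at h1
  -- the second factors of the pure centres
  let D : W → Prop := fun w => ∀ x : U, τ x w ∈ C
  have hDn : D n := fun x c => by
    obtain ⟨g₁, hg₁, h₁⟩ := hL.co_smul c hn x
    convert hg₁ using 1
    refine LinearEquiv.ext fun v => ?_
    rw [Symp.tv_apply, h₁, ← T.β_ctr]
    simp [smul_smul]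
  have hDs : ∀ {w : W}, D w → ∀ k : F, D (k • w) := fun hw k x => by
    rw [map_smul]; exact hs (hw x) k
  have hDj : ∀ {w w' : W}, D w → D w' → β w w = 0 → β w w' ≠ 0 → D (w + w') := by
    intro w w' hw hw' hww hne x
    by_cases hx : x = 0
    · simpa [hx] using hs (hw 0) 0
    obtain ⟨z, hz⟩ := T.exists_one hx
    have h1 : τ (x + z) w + τ x w' ∈ C := hj (hw _) (hw' _) (by
      rw [T.pair]; simpa [T.α_self, hz] using hne)
    have h2 := hj h1 (hs (hw z) (-1)) (by
      simp only [map_add, map_smul, LinearMap.add_apply, T.pair, T.α_self, hww, smul_eq_mul,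
        T.α_symm x z, hz, T.sβ w' w]
      simpa using hne)
    rw [map_add]
    convert h2 using 1
    simp
    abel
  have hDr : ∀ {a : W}, β a a ≠ 0 → ∀ {w}, D w → D (refl β a w) := by
    intro a ha w hw x
    obtain ⟨r, hr, hrv⟩ := hL.exists_refl ha
    rw [← hrv]
    exact Symp.centres_invariant T.aB hL.le hr (hw x)
  have hnear : ∀ {m w : W}, D m → β m m = 0 → β m w ≠ 0 → D w := by
    intro m w hm hmm hmw
    by_cases hw : β w w = 0
    · have ha : β (m - w) (m - w) = -(2 * β m w) := by
        simp [hmm, hw, T.sβ w m]; ring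
      have ha0 : β (m - w) (m - w) ≠ 0 := by
        rw [ha]; exact neg_ne_zero.2 (mul_ne_zero T.h2 hmw)
      have h1 := hDr ha0 hm
      rwa [refl_apply, ha, map_sub, hmm, zero_sub,
        show 2 / -(2 * β m w) * -β m w = 1 by have := T.h2; field_simp, one_smul,
        sub_sub_cancel] at h1
    · have h1 := hDj (hDs hm (-1)) (hDr hw hm) (by simp [hmm]) (by
        simp only [refl_apply, map_sub, map_smul, LinearMap.smul_apply, smul_eq_mul, hmm]
        have := T.h2
        field_simp
        simp [T.h2, hmw, hw])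
      have h2 := hDs h1 (-(2 / β w w * β m w)⁻¹)
      convert h2 using 1
      rw [refl_apply]
      have := T.h2
      match_scalars <;> field_simp <;> ring
  have hD : ∀ w, D w := by
    intro w
    by_cases hnw : β n w ≠ 0
    · exact hnear hDn hnn hnw
    push Not at hnw
    by_cases hw : w = 0
    · subst hw
      simpa using hDs hDn 0
    obtain ⟨f, hfn, hfw⟩ : ∃ f, β f n ≠ 0 ∧ β f w ≠ 0 := by
      obtain ⟨f₁, h₁⟩ := Symp.exists_apply_ne_zero T.nβ hn0
      obtain ⟨f₂, h₂⟩ := Symp.exists_apply_ne_zero T.nβ hw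
      by_cases e1 : β f₁ w = 0
      · by_cases e2 : β f₂ n = 0
        · exact ⟨f₁ + f₂, by simpa [e2] using h₁, by simpa [e1] using h₂⟩
        · exact ⟨f₂, e2, h₂⟩
      · exact ⟨f₁, h₁, e1⟩
    set t := (1 - β f f) / (2 * β f n)
    set a := f + t • n
    have haa : β a a = 1 := by
      simp [a, t, hnn, T.sβ n f]
      have := T.h2
      field_simp
      ring
    have han : β n a = β f n := by simp [a, hnn, T.sβ n f]
    have haw : β a w = β f w := by simp [a, hnw]
    refine hnear (hDr (by rw [haa]; exact one_ne_zero) hDn)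
      (by rw [T.refl_iso (by rw [haa]; exact one_ne_zero), hnn]) ?_
    rw [refl_apply, map_sub, map_smul, LinearMap.sub_apply, LinearMap.smul_apply, hnw, zero_sub,
      han, haw, haa, div_one, smul_eq_mul]
    exact neg_ne_zero.2 (mul_ne_zero (mul_ne_zero T.h2 hfn) hfw)
  -- all vectors
  refine Symp.eq_iso_of_centres T.nB T.aB hL.le fun v => ?_
  have h0 : (0 : V) ∈ C := by simpa using hs (hD n 0) 0
  have key : ∀ p : U × W, ∀ u ∈ C, u + τ p.1 p.2 ∈ C := by
    rintro ⟨a, w⟩ u hu
    show u + τ a w ∈ C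
    have hp : τ a w ∈ C := hD w a
    by_cases hu0 : u = 0
    · rwa [hu0, zero_add]
    by_cases hp0 : τ a w = 0
    · rwa [hp0, add_zero]
    by_cases hup : u + τ a w = 0
    · rwa [hup]
    by_cases hB : B u (τ a w) = 0
    swap
    · exact hj hu hp hB
    let f : Fin 3 → V := ![u, τ a w, u + τ a w]
    have hf : ∀ i, f i ≠ 0 := fun i => by fin_cases i <;> assumption
    obtain ⟨b, hb⟩ := exists_not_mem_three T.h2
      (fun i => LinearMap.ker (T.ctr.flip (f i)))
      fun i e => hf i (T.eq_of_ctr fun y => by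
        have : y ∈ LinearMap.ker (T.ctr.flip (f i)) := e ▸ Submodule.mem_top
        simpa using this)
    simp only [LinearMap.mem_ker, LinearMap.flip_apply] at hb
    obtain ⟨d, hd⟩ := exists_not_mem_three T.h2
      (fun i => LinearMap.ker (B (f i) ∘ₗ τ b)) fun i e => hb i (T.nβ.1 _ fun y => by
        have : y ∈ LinearMap.ker (B (f i) ∘ₗ τ b) := e ▸ Submodule.mem_top
        rw [T.β_ctr]
        simpa using this)
    simp only [LinearMap.mem_ker, LinearMap.comp_apply] at hd
    have d0 : B u (τ b d) ≠ 0 := hd 0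
    have d1 : B (τ a w) (τ b d) ≠ 0 := hd 1
    have d2 : B (u + τ a w) (τ b d) ≠ 0 := hd 2
    have e1 := hj hu (hD d b) d0
    have e2 := hj hp (hs (hD d b) (-1)) (by simpa using d1)
    have e3 := hj e1 e2 (by
      simp only [map_add, map_smul, LinearMap.add_apply, T.aB.self_eq_zero, hB, smul_eq_mul,
        T.B_symm (τ b d) (τ a w)]
      simp only [map_add, LinearMap.add_apply] at d2
      intro e
      exact d2 (by linear_combination -e))
    convert e3 using 1
    module
  have hall : ∀ s : F, ∀ u ∈ C, u + s • v ∈ C := by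
    refine Submodule.span_induction (p := fun v _ => ∀ s : F, ∀ u ∈ C, u + s • v ∈ C) ?_ ?_ ?_ ?_
      (T.span ▸ Submodule.mem_top : v ∈ Submodule.span F (Set.range fun p : U × W => τ p.1 p.2))
    · rintro _ ⟨p, rfl⟩ s u hu
      simpa using key (s • p.1, p.2) u hu
    · intro s u hu
      simpa using hu
    · intro x y _ _ hx hy s u hu
      rw [smul_add, ← add_assoc]
      exact hy s _ (hx s u hu)
    · intro k x _ hx s u hu
      rw [smul_smul]
      exact hx _ u hu
  simpa using hall 1 0 h0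

end Over

end Cfsg.Lib.Linear.SpOTensor
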