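import Cfsg.Agent.Lib.Linear.SpOTensor.Prod
import Cfsg.Agent.Lib.Linear.SpOTensor.Gen
import Cfsg.Agent.Lib.Linear.AschSp.NotSp
import Cfsg.Agent.Lib.Linear.AschGen.Kron

/-!
# The stabiliser of symplectic times orthogonal is maximal in the symplectic group
-/

set_option autoImplicit false
set_option linter.unusedSectionVars false

namespace Cfsg.Lib.Linear.SpOTensor

open Module
open scoped Matrix Kronecker
open Cfsg.Lib.Linear
open Cfsg.Lib.Linear.AschGen (tensMat mem_tensorProductSubgroup_iff conjA_apply)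

variable {ι : Type} [Fintype ι] [DecidableEq ι] {F : Type*} [Field F] {d k : ℕ}
  (e : ι ≃ Fin d × Fin k) (P : GL ι F)

/-- The pure vectors. -/
noncomputable def tensor : (Fin d → F) →ₗ[F] (Fin k → F) →ₗ[F] (ι → F) :=
  LinearMap.mk₂ F (fun a x => (P : Matrix ι ι F) *ᵥ ((fun p => a p.1 * x p.2) ∘ e))
    (fun a a' x => by rw [← Matrix.mulVec_add]; congr 1; ext i; simp [add_mul])
    (fun c a x => by rw [← Matrix.mulVec_smul]; congr 1; ext i; simp [mul_assoc])
    (fun a x x' => by rw [← Matrix.mulVec_add]; congr 1; ext i; simp [mul_add])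
    (fun c a x => by rw [← Matrix.mulVec_smul]; congr 1; ext i; simp; ring)

theorem tensor_apply (a : Fin d → F) (x : Fin k → F) :
    tensor e P a x = (P : Matrix ι ι F) *ᵥ ((fun p => a p.1 * x p.2) ∘ e) := rfl

theorem span_tensor :
    Submodule.span F (Set.range fun p : (Fin d → F) × (Fin k → F) => tensor e P p.1 p.2) = ⊤ := by
  classical
  refine eq_top_iff.2 fun v _ => ?_
  have hv : v = (P : Matrix ι ι F) *ᵥ ((P⁻¹ : GL ι F).val *ᵥ v) := by
    rw [Matrix.mulVec_mulVec, ← Units.val_mul, mul_inv_cancel, Units.val_one, Matrix.one_mulVec]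
  rw [hv, pi_eq_sum_univ' ((P⁻¹ : GL ι F).val *ᵥ v), Matrix.mulVec_sum]
  refine Submodule.sum_mem _ fun i _ => ?_
  rw [Matrix.mulVec_smul]
  refine Submodule.smul_mem _ _ (Submodule.subset_span ⟨(Pi.single (e i).1 1, Pi.single (e i).2 1), ?_⟩)
  show tensor e P _ _ = _
  rw [tensor_apply]
  congr 1
  ext j
  rcases eq_or_ne j i with rfl | h
  · simp
  · have : (e j).1 ≠ (e i).1 ∨ (e j).2 ≠ (e i).2 := by
      by_contra hc
      push Not at hc
      exact h (e.injective (Prod.ext hc.1 hc.2))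
    rcases this with h' | h' <;> simp [h, h']

theorem tensMat_tensor (p : Matrix (Fin d) (Fin d) F) (q : Matrix (Fin k) (Fin k) F)
    (a : Fin d → F) (x : Fin k → F) :
    tensMat e P p q *ᵥ tensor e P a x = tensor e P (p *ᵥ a) (q *ᵥ x) := by
  rw [tensMat, conjA_apply, tensor_apply, tensor_apply, Matrix.mulVec_mulVec, mul_assoc,
    ← Units.val_mul, inv_mul_cancel, Units.val_one, mul_one, ← Matrix.mulVec_mulVec]
  congr 1
  ext i
  simp only [Matrix.mulVec, dotProduct, Matrix.submatrix_apply, Function.comp_apply,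
    Matrix.kroneckerMap_apply]
  rw [← e.symm.sum_comp, Fintype.sum_prod_type, Finset.sum_mul_sum]
  refine Finset.sum_congr rfl fun _ _ => Finset.sum_congr rfl fun _ _ => ?_
  rw [Equiv.apply_symm_apply]
  ring

/-- An element acting on pure vectors factorwise stabilises the decomposition. -/
theorem mem_of_tensor {g : GL ι F} (p : (Fin d → F) →ₗ[F] (Fin d → F))
    (q : (Fin k → F) →ₗ[F] (Fin k → F)) (hp : Function.Injective p) (hq : Function.Injective q)
    (h : ∀ a x, g.val *ᵥ tensor e P a x = tensor e P (p a) (q x)) :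
    g ∈ Cfsg.Geo.tensorProductSubgroup d k e P := by
  classical
  have unit : ∀ {n : ℕ} (f : (Fin n → F) →ₗ[F] (Fin n → F)), Function.Injective f →
      (LinearMap.toMatrix' f).det ≠ 0 := fun {n} f hf => by
    rw [LinearMap.det_toMatrix']
    exact IsUnit.ne_zero (LinearEquiv.isUnit_det' (LinearEquiv.ofInjectiveEndo f hf))
  refine mem_tensorProductSubgroup_iff.2 ⟨Matrix.GeneralLinearGroup.mkOfDetNeZero _ (unit p hp),
    Matrix.GeneralLinearGroup.mkOfDetNeZero _ (unit q hq), ?_⟩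
  refine Matrix.toLin'.injective (LinearMap.ext_on (span_tensor e P) ?_)
  rintro _ ⟨⟨a, x⟩, rfl⟩
  simp only [Matrix.toLin'_apply, h, tensMat_tensor]
  simp [Matrix.GeneralLinearGroup.mkOfDetNeZero]

theorem bilin_eq_sum {κ : Type} [Fintype κ] [DecidableEq κ] (β : LinearMap.BilinForm F (κ → F))
    (a b : κ → F) : β a b = ∑ i, ∑ j, a i * β (Pi.single i 1) (Pi.single j 1) * b j := by
  conv_lhs => rw [pi_eq_sum_univ' a, pi_eq_sum_univ' b]
  simp only [map_sum, LinearMap.sum_apply, map_smul, LinearMap.smul_apply, smul_eq_mul]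
  simp only [Finset.mul_sum]
  rw [Finset.sum_comm]
  exact Finset.sum_congr rfl fun i _ => Finset.sum_congr rfl fun j _ => by ring

/-- The stabiliser is maximal. -/
theorem maximal [Fintype F] {m : ℕ} (hodd : Odd (Fintype.card F)) {n₁ n₂ : ℕ} (hn₂ : 3 ≤ n₂)
    (hn : n₁ = 2 → n₂ ≠ 4) (hn₁ : 2 ≤ n₁) (hex : ¬ (Fintype.card F = 3 ∧ n₂ = 3))
    (e : (Fin m ⊕ Fin m) ≃ Fin n₁ × Fin n₂) (P : GL (Fin m ⊕ Fin m) F)
    {f₁ : (Fin n₁ → F) → (Fin n₁ → F) → F} {f₂ : (Fin n₂ → F) → (Fin n₂ → F) → F}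
    (hf₁ : Cfsg.Geo.IsSymplecticForm f₁) (hf₂ : Cfsg.Geo.IsSymmetricForm f₂)
    (hT : Cfsg.Geo.IsTensorFormStructure id (Cfsg.sympForm m F) f₁ f₂ e P) :
    Cfsg.Geo.IsMaximalIn (Cfsg.spGL m F)
      (Cfsg.Geo.tensorProductSubgroup n₁ n₂ e P ⊓ Cfsg.spGL m F) := by
  classical
  obtain ⟨c, hc0, hc⟩ := hT
  have h2 : (2 : F) ≠ 0 := Ring.two_ne_zero fun h => by
    have := FiniteField.even_card_iff_char_two.1 h
    rw [Nat.odd_iff] at hodd
    omega
  let α₁ : LinearMap.BilinForm F (Fin n₁ → F) := LinearMap.mk₂ F f₁ hf₁.bilinear.add_left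
    hf₁.bilinear.smul_left hf₁.bilinear.add_right hf₁.bilinear.smul_right
  let β : LinearMap.BilinForm F (Fin n₂ → F) := LinearMap.mk₂ F f₂ hf₂.bilinear.add_left
    hf₂.bilinear.smul_left hf₂.bilinear.add_right hf₂.bilinear.smul_right
  have hα : (c • α₁).IsAlt := fun v => by
    show c * f₁ v v = 0
    rw [hf₁.alternating, mul_zero]
  have nd₁ : ∀ v, v ≠ 0 → (∃ x, (c • α₁) x v ≠ 0) ∧ ∃ x, (c • α₁) v x ≠ 0 := fun v hv =>
    ⟨(hf₁.nondegenerate v hv).1.imp fun x hx => mul_ne_zero hc0 hx,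
      (hf₁.nondegenerate v hv).2.imp fun x hx => mul_ne_zero hc0 hx⟩
  set τ := tensor e P
  set B := Symp.spB m F
  have T : Ten B (c • α₁) β τ := by
    refine ⟨h2, Symp.spB_nondegenerate m F, Symp.spB_isAlt m F,
      ⟨fun v hv => by_contra fun hne => (nd₁ v hne).2.elim fun x hx => hx (hv x),
        fun v hv => by_contra fun hne => (nd₁ v hne).1.elim fun x hx => hx (hv x)⟩, hα,
      ⟨fun v hv => by_contra fun hne => (hf₂.nondegenerate v hne).2.elim fun x hx => hx (hv x),
        fun v hv => by_contra fun hne => (hf₂.nondegenerate v hne).1.elim fun x hx => hx (hv x)⟩,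
      hf₂.symm, fun a x b y => ?_, span_tensor e P⟩
    show B (tensor e P a x) (tensor e P b y) = _
    rw [Symp.spB_apply]
    show Cfsg.sympForm m F
      ((P : Matrix _ _ F) *ᵥ ((fun p : Fin n₁ × Fin n₂ => a p.1 * x p.2) ∘ e))
      ((P : Matrix _ _ F) *ᵥ ((fun p : Fin n₁ × Fin n₂ => b p.1 * y p.2) ∘ e)) = _
    rw [hc, LinearMap.smul_apply, LinearMap.smul_apply, smul_eq_mul, bilin_eq_sum α₁, bilin_eq_sum β,
      mul_assoc]
    congr 1
    simp only [Cfsg.Geo.formOfGram, Fintype.sum_prod_type, Finset.sum_mul, Finset.mul_sum, id_eq,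
      Matrix.kroneckerMap_apply, Cfsg.Geo.gramMatrix]
    rw [Finset.sum_comm]
    refine Finset.sum_congr rfl fun p _ => ?_
    refine Eq.trans (Finset.sum_congr rfl fun i _ => Finset.sum_comm) ?_
    rw [Finset.sum_comm]
    refine Finset.sum_congr rfl fun q _ => Finset.sum_congr rfl fun i _ =>
      Finset.sum_congr rfl fun j _ => ?_
    simp only [α₁, β, LinearMap.mk₂_apply]
    ring
  set E := Symp.glEquiv (Fin m ⊕ Fin m) F
  have hsp : ∀ g, g ∈ Cfsg.spGL m F ↔ E g ∈ Symp.iso B := fun g => by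
    rw [Symp.spGL_eq_comap]; rfl
  have hk : 3 ≤ finrank F (Fin n₂ → F) := by rw [finrank_fin_fun]; exact hn₂
  have hq : Nat.card F = 3 → 4 ≤ finrank F (Fin n₂ → F) := fun h => by
    rw [finrank_fin_fun]
    rw [Nat.card_eq_fintype_card] at h
    omega
  refine ⟨lt_of_le_of_ne inf_le_right fun h => ?_, fun M hM hMs => ?_⟩
  · exact AschSp.not_sp_le_tensor hn₁ hn₂ (e := e) (P := P) (h ▸ inf_le_left)
  have hov : Over T (M.map E.toMonoidHom) := by
    refine ⟨?_, fun p q r hr hp hq' => ?_⟩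
    · rintro _ ⟨g, hg, rfl⟩
      exact (hsp g).1 (hMs hg)
    have hpi : Function.Injective p := (injective_iff_map_eq_zero p).2 fun a ha => T.nα.1 a fun b => by
      have h1 := hp a b
      rw [ha, map_zero, LinearMap.zero_apply] at h1
      exact (mul_eq_zero.1 h1.symm).resolve_left hr
    have hqi : Function.Injective q := (injective_iff_map_eq_zero q).2 fun a ha => T.nβ.1 a fun b => by
      have h1 := hq' a b
      rw [ha, map_zero, LinearMap.zero_apply] at h1
      exact (mul_eq_zero.1 h1.symm).resolve_left (inv_ne_zero hr)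
    let p' := LinearEquiv.ofInjectiveEndo p hpi
    let q' := LinearEquiv.ofInjectiveEndo q hqi
    let A : Matrix (Fin m ⊕ Fin m) (Fin m ⊕ Fin m) F :=
      tensMat e P (LinearMap.toMatrix' p) (LinearMap.toMatrix' q)
    let A' : Matrix (Fin m ⊕ Fin m) (Fin m ⊕ Fin m) F :=
      tensMat e P (LinearMap.toMatrix' (p'.symm : (Fin n₁ → F) →ₗ[F] (Fin n₁ → F)))
        (LinearMap.toMatrix' (q'.symm : (Fin n₂ → F) →ₗ[F] (Fin n₂ → F)))
    have hAA : A * A' = 1 := by
      refine Matrix.toLin'.injective (LinearMap.ext_on (span_tensor e P) ?_)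
      rintro _ ⟨⟨a, x⟩, rfl⟩
      simp only [Matrix.toLin'_apply, ← Matrix.mulVec_mulVec, A, A', tensMat_tensor,
        LinearMap.toMatrix'_mulVec, Matrix.one_mulVec, LinearEquiv.coe_coe]
      rw [show p (p'.symm a) = a from p'.apply_symm_apply a,
        show q (q'.symm x) = x from q'.apply_symm_apply x]
    let g : GL (Fin m ⊕ Fin m) F := ⟨A, A', hAA, mul_eq_one_comm.1 hAA⟩
    have hgv : ∀ a x, E g (τ a x) = τ (p a) (q x) := fun a x => by
      rw [Symp.glEquiv_apply, tensMat_tensor, LinearMap.toMatrix'_mulVec, LinearMap.toMatrix'_mulVec]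
    have hgs : g ∈ Cfsg.spGL m F := (hsp g).2 fun u v => by
      have e' : B.comp (E g : (_ → F) →ₗ[F] (_ → F)) (E g : (_ → F) →ₗ[F] (_ → F)) = B :=
        T.hom_ext fun a x => T.hom_ext fun b y => by
          simp only [LinearMap.BilinForm.comp_apply, LinearEquiv.coe_coe, hgv, T.pair, hp, hq']
          field_simp
      exact LinearMap.congr_fun₂ e' u v
    exact ⟨E g, ⟨g, hM ⟨mem_of_tensor e P p q hpi hqi fun a x => hgv a x, hgs⟩, rfl⟩, hgv⟩
  by_cases hlose : Losing T (M.map E.toMonoidHom)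
  · refine Or.inl (le_antisymm (le_inf (fun g hg => ?_) hMs) hM)
    have S : Sit T (M.map E.toMonoidHom) := ⟨hov, hlose, hk, by
      simpa [finrank_fin_fun] using hn, hq⟩
    obtain ⟨p, q, hpq⟩ := pure_of_losing S (g := E g) ⟨g, hg, rfl⟩
    refine mem_of_tensor e P p q.toLinearMap ?_ q.injective fun a x => hpq a x
    obtain ⟨w, hw⟩ := T.exists_aniso (by omega)
    refine (injective_iff_map_eq_zero p).2 fun a ha => ?_
    have h1 := hpq a w
    rw [ha, map_zero, LinearMap.zero_apply, LinearEquiv.map_eq_zero_iff] at h1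
    refine T.nα.1 a fun b => ?_
    have h3 := T.pair a w b w
    rw [h1, map_zero, LinearMap.zero_apply] at h3
    exact (mul_eq_zero.1 h3.symm).resolve_right hw
  · refine Or.inr (le_antisymm hMs fun g hg => ?_)
    have h1 := hov.eq_top_of_not_losing hk hq hlose
    have h3 : E g ∈ M.map E.toMonoidHom := h1 ▸ (hsp g).1 hg
    exact (Subgroup.mem_map_iff_mem E.injective).1 h3

end Cfsg.Lib.Linear.SpOTensor
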