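import Mathlib.RingTheory.AdjoinRoot
import Cfsg.Agent.Lib.Dickson.TwoTransvections

/-!
# A diagonal element in the group generated by two transvections over an extension
-/

set_option autoImplicit false
set_option linter.unusedSectionVars false

namespace Cfsg.Lib.Linear.SpOTensor

open Matrix
open scoped MatrixGroups

/-- Outside an exceptional case a set of pairs closed under two transvections contains a pair
`(α, 0)` with the square of `α` outside the base field. -/
theorem exists_pair_zero {F K : Type*} [Field F] [Field K] [Algebra F K] [Finite K]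
    (h2 : (2 : K) ≠ 0) {μ : K} (hμ : μ ∉ Set.range (algebraMap F K)) (hex : μ ^ 2 ≠ -1)
    {P : K → K → Prop} (h1 : P 1 0) (hupper : ∀ s : ℤ, ∀ a c, P a c → P (a + s * μ * c) c)
    (hlower : ∀ s : ℤ, ∀ a c, P a c → P a (c + s * a)) :
    ∃ ξ, P ξ 0 ∧ ξ ^ 2 ∉ Set.range (algebraMap F K) := by
  classical
  set K' := Subfield.closure ({μ} : Set K)
  haveI : Fintype K' := Fintype.ofFinite K'
  set m : K' := ⟨μ, Subfield.subset_closure rfl⟩
  have hgen : Subfield.closure ({m} : Set K') = ⊤ := by
    have e : (Subfield.closure ({m} : Set K')).map K'.subtype = K' := by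
      rw [RingHom.map_field_closure, Set.image_singleton]
      rfl
    refine eq_top_iff.2 fun y _ => ?_
    obtain ⟨y', hy', he⟩ : (y : K) ∈ (Subfield.closure ({m} : Set K')).map K'.subtype := by
      rw [e]; exact y.2
    exact (Subtype.ext he : y' = y) ▸ hy'
  have h2' : (2 : K') ≠ 0 := fun h => h2 (by
    have h' := congrArg K'.subtype h
    rwa [map_ofNat, map_zero] at h')
  have hm0 : m ≠ 0 := fun h => hμ ⟨0, by rw [map_zero]; exact (congrArg Subtype.val h).symm⟩
  obtain ⟨htop, -⟩ | ⟨-, hbad, -⟩ := Cfsg.Lib.Dickson.two_transvections h2' m hm0 hgen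
  swap
  · exact absurd (by simpa using congrArg Subtype.val hbad) hex
  let Q : SL(2, K') → Prop := fun g => ∀ a c, P a c →
    P ((g 0 0 : K) * a + (g 0 1 : K) * c) ((g 1 0 : K) * a + (g 1 1 : K) * c)
  have hQ : ∀ g : SL(2, K'), Q g := by
    intro g
    have hg : g ∈ (⊤ : Subgroup SL(2, K')) := trivial
    rw [← htop] at hg
    suffices h : Q g ∧ Q g⁻¹ from h.1
    induction hg using Subgroup.closure_induction with
    | mem g hg =>
      rcases hg with hg | hg
      · constructor <;> intro a c hP
        · have := hlower 1 a c hP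
          simp [hg]
          simpa [add_comm] using this
        · have := hlower (-1) a c hP
          rw [Matrix.SpecialLinearGroup.coe_inv, hg, Matrix.adjugate_fin_two]
          simp
          simpa [add_comm] using this
      · constructor <;> intro a c hP
        · have := hupper 1 a c hP
          simp [hg]
          simpa [m] using this
        · have := hupper (-1) a c hP
          rw [Matrix.SpecialLinearGroup.coe_inv, hg, Matrix.adjugate_fin_two]
          simp
          simpa [m] using this
    | one => constructor <;> intro a c hP <;> simpa using hP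
    | mul g g' _ _ hg hg' =>
      have hmul : ∀ g g' : SL(2, K'), Q g → Q g' → Q (g * g') := fun g g' h h' a c hP => by
        have := h _ _ (h' a c hP)
        simp only [Matrix.SpecialLinearGroup.coe_mul, Matrix.mul_apply, Fin.sum_univ_two,
          Subfield.coe_add, Subfield.coe_mul]
        convert this using 1 <;> ring
      exact ⟨hmul _ _ hg.1 hg'.1, by rw [_root_.mul_inv_rev]; exact hmul _ _ hg'.2 hg.2⟩
    | inv g _ hg => exact ⟨hg.2, by rw [inv_inv]; exact hg.1⟩
  have hdiag : ∀ ξ : K', ξ ≠ 0 → P ξ 0 := fun ξ hξ => by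
    have := hQ ⟨!![ξ, 0; 0, ξ⁻¹], by simp [Matrix.det_fin_two, hξ]⟩ 1 0 h1
    simpa using this
  by_cases hμ2 : μ ^ 2 ∈ Set.range (algebraMap F K)
  · refine ⟨μ + 1, ?_, ?_⟩
    · have hne : m + 1 ≠ 0 := fun h => hμ ⟨-1, by
        rw [map_neg, map_one]
        have : μ + 1 = 0 := congrArg Subtype.val h
        linear_combination -this⟩
      exact hdiag _ hne
    · rintro ⟨t, ht⟩
      obtain ⟨s, hs⟩ := hμ2
      have hF2 : algebraMap F K 2 = 2 := map_ofNat _ 2
      exact hμ ⟨(t - s - 1) / 2, by
        rw [map_div₀, map_sub, map_sub, ht, hs, map_one, hF2]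
        field_simp
        ring⟩
  · exact ⟨μ, hdiag m hm0, hμ2⟩

end Cfsg.Lib.Linear.SpOTensor
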