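import Cfsg.Agent.Lib.Linear.SpOTensor.Null

/-!
# A long map together with its coefficient at a line
-/

set_option autoImplicit false
set_option linter.unusedSectionVars false

namespace Cfsg.Lib.Linear.SpOTensor

open Module
open Cfsg.Lib.Linear

variable {F V U W : Type*} [Field F] [AddCommGroup V] [Module F V] [FiniteDimensional F V]
  [AddCommGroup U] [Module F U] [FiniteDimensional F U]
  [AddCommGroup W] [Module F W] [FiniteDimensional F W]
  {B : LinearMap.BilinForm F V} {α : LinearMap.BilinForm F U} {β : LinearMap.BilinForm F W}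
  {τ : U →ₗ[F] W →ₗ[F] V} {T : Ten B α β τ} {L : Subgroup (V ≃ₗ[F] V)}

/-- A long map with its coefficient at a line. -/
structure Dat (T : Ten B α β τ) (L : Subgroup (V ≃ₗ[F] V)) (x : U) (Y : V →ₗ[F] V)
    (M : Module.End F W) : Prop where
  mem : ∀ r : F, ∃ g ∈ L, ∀ v, g v = v + r • Y v
  sq : ∀ v, Y (Y v) = 0
  coef : ∀ w, T.ctr x (Y (τ x w)) = M w
  ker : ∀ w, M w = 0 → Y (τ x w) = 0
  stab : ∀ w, M (M w) = 0 → M w = 0

/-- Entries of small rank vanish. -/
def Low (T : Ten B α β τ) (L : Subgroup (V ≃ₗ[F] V)) (x : U) (n : ℕ) : Prop :=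
  ∀ g ∈ L, finrank F (LinearMap.range (T.ent g x x)) < n → T.ent g x x = 0

theorem finrank_range_mul_le (A A' : Module.End F W) :
    finrank F (LinearMap.range (A * A')) ≤ finrank F (LinearMap.range A) :=
  Submodule.finrank_mono (by rintro _ ⟨w, rfl⟩; exact ⟨A' w, rfl⟩)

theorem finrank_range_mul_le' (A A' : Module.End F W) :
    finrank F (LinearMap.range (A * A')) ≤ finrank F (LinearMap.range A') := by
  have h : LinearMap.range (A * A') = (LinearMap.range A').map A := LinearMap.range_comp A' A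
  rw [h]
  exact Submodule.finrank_map_le _ _

variable (S : Sit T L)
include S

namespace Dat

variable {x : U} {Y : V →ₗ[F] V} {M : Module.End F W} (D : Dat T L x Y M)
include D

theorem iso_zero (u v : V) : B (Y u) (Y v) = 0 ∧ B (Y u) v = -B u (Y v) := by
  obtain ⟨g, hg, hgv⟩ := D.mem 1
  obtain ⟨g', hg', hgv'⟩ := D.mem (-1)
  have h1 := S.ov.le hg u v
  have h2 := S.ov.le hg' u v
  simp only [hgv, hgv', one_smul, neg_smul, map_add, map_neg, LinearMap.add_apply,
    LinearMap.neg_apply] at h1 h2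
  have h3 : B (Y u) (Y v) = 0 := (mul_eq_zero.1 (show (2 : F) * B (Y u) (Y v) = 0 by
    linear_combination h1 + h2)).resolve_left T.h2
  exact ⟨h3, by linear_combination h1 - h3⟩

theorem skew (u v : V) : B (Y u) v = -B u (Y v) := (D.iso_zero S u v).2

theorem isoY (u v : V) : B (Y u) (Y v) = 0 := (D.iso_zero S u v).1

theorem adj_coef : T.adj M = M := T.adj_eq fun a b => by
  rw [T.sβ a, ← D.coef, ← D.coef, T.β_ctr, T.β_ctr, D.skew S, ← T.B_symm]

theorem β_ctrY (v : V) (w : W) : β (T.ctr x (Y v)) w = -B v (Y (τ x w)) := by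
  rw [T.β_ctr, D.skew S]

theorem finrank_ker_eq : LinearMap.ker (M * M) = LinearMap.ker M := by
  ext w
  simp only [LinearMap.mem_ker, Module.End.mul_apply]
  exact ⟨D.stab w, fun h => by rw [h, map_zero]⟩

theorem rank_sq : finrank F (LinearMap.range (M * M)) = finrank F (LinearMap.range M) := by
  have h1 := (M * M).finrank_range_add_finrank_ker
  have h2 := LinearMap.finrank_range_add_finrank_ker M
  rw [D.finrank_ker_eq S] at h1
  omega

/-- The square of the coefficient is a coefficient. -/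
theorem sqDat : ∃ Y', Dat T L x Y' (-(M * M)) := by
  obtain ⟨g, hg, hgv⟩ := D.mem 1
  simp only [one_smul] at hgv
  have hgi : ∀ v, (g⁻¹ : V ≃ₗ[F] V) v = v - Y v := fun v => by
    have : g (v - Y v) = v := by rw [hgv, map_sub, D.sq, sub_zero, sub_add_cancel]
    conv_lhs => rw [← this]
    exact T.inv_act _
  have hM : ∀ w, T.ctr x ((g⁻¹ : V ≃ₗ[F] V) (τ x w)) = -M w := fun w => by
    rw [hgi, map_sub, D.coef, T.ctr_tau, T.α_self, zero_smul, zero_sub]
  have hstab : ∀ w, M (M w) = 0 → M w = 0 := D.stab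
  refine ⟨T.cnj g x, fun r => exists_cnj S hg x r, T.cnj_cnj g x, fun w => ?_, fun w h => ?_,
    fun w h => ?_⟩
  · rw [Ten.cnj_apply, hM, hgv, map_add, T.ctr_tau, T.α_self, zero_smul, zero_add, D.coef, map_neg]
    rfl
  · rw [LinearMap.neg_apply, neg_eq_zero, Module.End.mul_apply] at h
    rw [Ten.cnj_apply, hM, hstab w h, neg_zero, map_zero, map_zero]
  · simp only [LinearMap.neg_apply, map_neg, neg_neg, Module.End.mul_apply] at h ⊢
    rw [neg_eq_zero]
    rw [hstab w (hstab (M w) (hstab (M (M w)) h))]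
    exact map_zero _

end Dat

/-- The square of a self-adjoint entry is an entry. -/
theorem exists_ent_adj {g : V ≃ₗ[F] V} (hg : g ∈ L) (x y : U) :
    ∃ h ∈ L, T.ent h x x = -(T.ent g x y ∘ₗ T.adj (T.ent g x y)) := by
  obtain ⟨k, hk, hkv⟩ := exists_cnj S hg y 1
  refine ⟨k, hk, LinearMap.ext fun w => ?_⟩
  rw [Ten.ent_apply, hkv, one_smul, map_add, T.ctr_tau, T.α_self, zero_smul, zero_add,
    Ten.cnj_apply, T.adj_ent (S.ov.le hg)]
  simp [Ten.ent_apply]

/-- A nilpotent self-adjoint entry vanishes. -/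
theorem ent_eq_zero_of_nil {g : V ≃ₗ[F] V} (hg : g ∈ L) {x : U} (hx : x ≠ 0)
    (ha : T.adj (T.ent g x x) = T.ent g x x)
    (h3 : ∀ w, T.ent g x x (T.ent g x x (T.ent g x x w)) = 0) : T.ent g x x = 0 := by
  obtain ⟨h, hh, he⟩ := exists_ent_adj S hg x x
  rw [ha] at he
  have hsq : T.ent h x x = 0 := by
    refine null S hh hx hx (fun w => ?_) fun w => ?_
    all_goals
      rw [he, T.adj_neg]
      have e : T.adj (T.ent g x x ∘ₗ T.ent g x x) = T.ent g x x ∘ₗ T.ent g x x := by
        have := T.adj_mul (T.ent g x x) (T.ent g x x)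
        rw [ha] at this
        exact this
      rw [e]
      simp [h3]
  rw [he, neg_eq_zero] at hsq
  exact null S hg hx hx (fun w => by rw [ha]; exact LinearMap.congr_fun hsq w)
    fun w => by rw [ha]; exact LinearMap.congr_fun hsq w

end Cfsg.Lib.Linear.SpOTensor
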