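import Cfsg.Agent.Lib.Linear.SpOTensor.Parab

/-!
# No entry is isotropic

An entry of an element of the group whose products with its adjoint vanish is zero.
-/

set_option autoImplicit false
set_option linter.unusedSectionVars false

namespace Cfsg.Lib.Linear.SpOTensor

open Module
open Cfsg.Lib.Linear

variable {F V U W : Type*} [Field F] [AddCommGroup V] [Module F V] [FiniteDimensional F V]
  [AddCommGroup U] [Module F U] [FiniteDimensional F U]
  [AddCommGroup W] [Module F W] [FiniteDimensional F W]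
  {B : LinearMap.BilinForm F V} {α : LinearMap.BilinForm F U} {β : LinearMap.BilinForm F W}
  {τ : U →ₗ[F] W →ₗ[F] V} {T : Ten B α β τ} {L : Subgroup (V ≃ₗ[F] V)}

/-- The long map of a vector of the first factor. -/
noncomputable def Ten.lng (T : Ten B α β τ) (x : U) : V →ₗ[F] V := τ x ∘ₗ T.ctr x

theorem Ten.lng_apply (T : Ten B α β τ) (x : U) (v : V) : T.lng x v = τ x (T.ctr x v) := rfl

theorem Ten.lng_lng (T : Ten B α β τ) (x : U) (v : V) : T.lng x (T.lng x v) = 0 := by
  simp [Ten.lng_apply, T.ctr_tau, T.α_self]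

theorem Ten.lng_line (T : Ten B α β τ) (x : U) (w : W) : T.lng x (τ x w) = 0 := by
  simp [Ten.lng_apply, T.ctr_tau, T.α_self]

/-- The conjugate of a long map. -/
noncomputable def Ten.cnj (T : Ten B α β τ) (g : V ≃ₗ[F] V) (y : U) : V →ₗ[F] V :=
  (g : V →ₗ[F] V) ∘ₗ T.lng y ∘ₗ (g⁻¹ : V ≃ₗ[F] V).toLinearMap

theorem Ten.cnj_apply (T : Ten B α β τ) (g : V ≃ₗ[F] V) (y : U) (v : V) :
    T.cnj g y v = g (τ y (T.ctr y ((g⁻¹ : V ≃ₗ[F] V) v))) := rfl

theorem Ten.cnj_cnj (T : Ten B α β τ) (g : V ≃ₗ[F] V) (y : U) (v : V) :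
    T.cnj g y (T.cnj g y v) = 0 := by
  simp [Ten.cnj_apply, T.inv_act, T.ctr_tau, T.α_self]

/-- The map of blocks to the space. -/
noncomputable def blk (τ : U →ₗ[F] W →ₗ[F] V) (D : Submodule F W) :
    (Fin (finrank F U) → D) →ₗ[F] V :=
  ∑ i, (τ (Module.finBasis F U i)) ∘ₗ D.subtype ∘ₗ LinearMap.proj i

theorem blk_apply (D : Submodule F W) (f : Fin (finrank F U) → D) :
    blk τ D f = ∑ i, τ (Module.finBasis F U i) (f i : W) := by
  simp [blk]

theorem tau_mem_blk (D : Submodule F W) (a : U) {w : W} (hw : w ∈ D) :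
    τ a w ∈ LinearMap.range (blk τ D) := by
  refine ⟨fun i => (Module.finBasis F U).repr a i • ⟨w, hw⟩, ?_⟩
  rw [blk_apply]
  conv_rhs => rw [← (Module.finBasis F U).sum_repr a]
  simp only [map_sum, LinearMap.sum_apply, map_smul, LinearMap.smul_apply]
  exact Finset.sum_congr rfl fun i _ => by simp

theorem blk_injective (T : Ten B α β τ) (D : Submodule F W) : Function.Injective (blk τ D) := by
  classical
  rw [← LinearMap.ker_eq_bot, LinearMap.ker_eq_bot']
  intro f hf
  funext j
  set b := Module.finBasis F U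
  set u := -((α.toDual T.nα).symm (b.coord j))
  have hu : ∀ i, α (b i) u = if i = j then 1 else 0 := fun i => by
    rw [T.α_symm, map_neg, LinearMap.neg_apply, neg_neg,
      LinearMap.BilinForm.apply_toDual_symm_apply]
    simp [Finsupp.single_apply]
  have h1 := congrArg (T.ctr u) hf
  simp only [blk_apply, map_sum, T.ctr_tau, map_zero] at h1
  rw [Finset.sum_eq_single j (fun i _ hij => by rw [hu, if_neg hij, zero_smul])
    (fun h => absurd (Finset.mem_univ j) h), hu, if_pos rfl, one_smul] at h1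
  exact Subtype.ext h1

theorem finrank_range_blk (T : Ten B α β τ) (D : Submodule F W) :
    finrank F (LinearMap.range (blk τ D)) = finrank F U * finrank F D := by
  rw [LinearMap.finrank_range_of_inj (blk_injective T D), Module.finrank_pi_fintype]
  simp

theorem two_le_finrank (T : Ten B α β τ) {x : U} (hx : x ≠ 0) : 2 ≤ finrank F U := by
  obtain ⟨z, hz⟩ := T.exists_one hx
  have hli : LinearIndependent F ![x, z] := by
    rw [LinearIndependent.pair_iff' hx]
    intro t ht
    rw [← ht, map_smul, LinearMap.smul_apply, T.α_self, smul_zero] at hz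
    exact zero_ne_one hz
  simpa using hli.fintype_card_le_finrank

variable (S : Sit T L)
include S

theorem exists_long (x : U) (r : F) : ∃ g ∈ L, ∀ v, g v = v + r • T.lng x v := by
  obtain ⟨g, hg, hgv⟩ := S.ov.exists_left (LinearMap.id + r • (α.flip x).smulRight x) fun u v => by
    simp [T.α_self, T.α_symm x v]
    ring
  refine ⟨g, hg, fun v => LinearMap.congr_fun (T.hom_ext (f := (g : V →ₗ[F] V))
    (g := LinearMap.id + r • T.lng x) fun a w => ?_) v⟩
  simp [hgv, T.ctr_tau, Ten.lng_apply, smul_smul]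

theorem exists_cnj {g : V ≃ₗ[F] V} (hg : g ∈ L) (y : U) (r : F) :
    ∃ k ∈ L, ∀ v, k v = v + r • T.cnj g y v := by
  obtain ⟨k, hk, hkv⟩ := exists_long S y r
  refine ⟨g * k * g⁻¹, mul_mem (mul_mem hg hk) (inv_mem hg), fun v => ?_⟩
  rw [LinearEquiv.mul_apply, LinearEquiv.mul_apply, hkv, map_add, map_smul, T.act_inv]
  rfl

/-- A product fixing pointwise the image of a long map is trivial if it moves few vectors. -/
theorem eq_one_of_fix {g : V ≃ₗ[F] V} (hg : g ∈ L) {y : U} (hy : y ≠ 0) {R : W →ₗ[F] W}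
    (hR : ∀ u v, β (R u) (R v) = β u v) {D : Submodule F W} (hD : ∀ w, R w - w ∈ D)
    (hsmall : finrank F U * finrank F D < finrank F W)
    (hfix : ∀ (k : V ≃ₗ[F] V), (∀ a w, k (τ a w) = τ a (R w)) → ∀ w, k (g (τ y w)) = g (τ y w)) :
    ∀ w, R w = w := by
  obtain ⟨h, hh, hhv⟩ := S.ov.pure LinearMap.id R 1 one_ne_zero (fun a b => by rw [one_mul]; rfl)
    (fun u v => by rw [hR, inv_one, one_mul])
  obtain ⟨p, hp⟩ := parabolic_one S (n := g⁻¹ * h * g) (mul_mem (mul_mem (inv_mem hg) hh) hg) hy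
    fun w => by rw [LinearEquiv.mul_apply, LinearEquiv.mul_apply, hfix h hhv, T.inv_act]
  have hdiff : ∀ v, h v - v ∈ LinearMap.range (blk τ D) := fun v => by
    have hle : (⊤ : Submodule F V) ≤
        (LinearMap.range (blk τ D)).comap ((h : V →ₗ[F] V) - LinearMap.id) := by
      rw [← T.span, Submodule.span_le]
      rintro _ ⟨⟨a, w⟩, rfl⟩
      show h (τ a w) - τ a w ∈ LinearMap.range (blk τ D)
      rw [hhv, LinearMap.id_apply, ← map_sub]
      exact tau_mem_blk D a (hD w)
    exact hle trivial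
  have hp1 : ∀ a, p a = a := by
    intro a
    by_contra hne
    set d := p a - a
    have hd : d ≠ 0 := sub_ne_zero.2 hne
    let f : W →ₗ[F] LinearMap.range (blk τ D) :=
      ((g : V →ₗ[F] V) ∘ₗ τ d).codRestrict _ fun w => by
        have h1 := congrArg g (hp a w)
        rw [LinearEquiv.mul_apply, LinearEquiv.mul_apply, T.act_inv] at h1
        show g (τ (p a - a) w) ∈ _
        rw [map_sub, LinearMap.sub_apply, map_sub, ← h1]
        exact hdiff _
    have hf : Function.Injective f := fun w w' e =>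
      T.tau_inj hd (g.injective (congrArg Subtype.val e))
    have h1 := LinearMap.finrank_le_finrank_of_injective hf
    rw [finrank_range_blk T D] at h1
    omega
  intro w
  obtain ⟨x, hx⟩ : ∃ x : U, x ≠ 0 := ⟨y, hy⟩
  refine T.tau_inj hx ?_
  rw [← show h (τ x w) = τ x (R w) from hhv x w]
  have e : (g⁻¹ * h * g : V ≃ₗ[F] V).toLinearMap = LinearMap.id := T.hom_ext fun a w => by
    rw [LinearEquiv.coe_coe, hp, hp1]; rfl
  have h1 := congrArg g (LinearMap.congr_fun e ((g⁻¹ : V ≃ₗ[F] V) (τ x w)))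
  rw [LinearEquiv.coe_coe, LinearEquiv.mul_apply, LinearEquiv.mul_apply, T.act_inv, T.act_inv] at h1
  simpa [T.act_inv] using h1

/-- An entry which is isotropic on both sides is zero. -/
theorem null {g : V ≃ₗ[F] V} (hg : g ∈ L) {x y : U} (hx : x ≠ 0) (hy : y ≠ 0)
    (h1 : ∀ w, T.ent g x y (T.adj (T.ent g x y) w) = 0)
    (h2 : ∀ w, T.adj (T.ent g x y) (T.ent g x y w) = 0) : T.ent g x y = 0 := by
  classical
  by_contra hA0
  set A := T.ent g x y with hAdef
  obtain ⟨z, hz⟩ := T.exists_one hx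
  obtain ⟨y', hy'⟩ := T.exists_one hy
  have hadj : ∀ w, T.ctr y ((g⁻¹ : V ≃ₗ[F] V) (τ x w)) = -T.adj A w := fun w => by
    rw [T.adj_ent (S.ov.le hg), LinearMap.neg_apply, neg_neg, Ten.ent_apply]
  have hXY : ∀ v, T.lng x (T.cnj g y v) = τ x (A (T.ctr y ((g⁻¹ : V ≃ₗ[F] V) v))) := fun v => rfl
  have hYX : ∀ w, T.cnj g y (τ x w) = -g (τ y (T.adj A w)) := fun w => by
    rw [Ten.cnj_apply, hadj, map_neg, map_neg]
  have xyx : ∀ v, T.lng x (T.cnj g y (T.lng x v)) = 0 := fun v => by
    rw [hXY, Ten.lng_apply, hadj, map_neg, h1, neg_zero, map_zero]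
  have yxy : ∀ v, T.cnj g y (T.lng x (T.cnj g y v)) = 0 := fun v => by
    rw [hXY, hYX, h2, map_zero, map_zero, neg_zero]
  obtain ⟨a, ha, hav⟩ := exists_long S x 1
  obtain ⟨b, hb, hbv⟩ := exists_cnj S hg y 1
  simp only [one_smul] at hav hbv
  set k := a * b * a⁻¹ * b⁻¹ with hk
  have hkL : k ∈ L := mul_mem (mul_mem (mul_mem ha hb) (inv_mem ha)) (inv_mem hb)
  set X := T.lng x with hX
  set Y := T.cnj g y with hY
  have xx : ∀ v, X (X v) = 0 := fun v => T.lng_lng x v
  have yy : ∀ v, Y (Y v) = 0 := fun v => T.cnj_cnj g y v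
  have hkv : ∀ v, k v = v + X (Y v) - Y (X v) := by
    intro v
    obtain ⟨v, rfl⟩ := (b * a).surjective v
    have h3 : k ((b * a) v) = a (b v) := by
      simp only [hk, LinearEquiv.mul_apply, T.inv_act]
    rw [h3, LinearEquiv.mul_apply]
    simp only [hav, hbv, map_add, xx, yy, xyx, yxy, map_zero, add_zero, zero_add]
    abel
  have hline : ∀ w, k (τ x w) = τ x w := fun w => by
    rw [hkv, hX, T.lng_line, map_zero, sub_zero, hXY, hadj, map_neg, h1, neg_zero, map_zero,
      add_zero]
  have nsurj : ¬ Function.Surjective A := fun hs => hA0 (by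
    have h3 : T.adj A = 0 := LinearMap.ext fun w => by
      obtain ⟨w', rfl⟩ := hs w
      rw [h2, LinearMap.zero_apply]
    rw [← T.adj_adj A, h3]
    exact T.adj_eq fun _ _ => by simp)
  let C : U →ₗ[F] Module.End F W :=
    LinearMap.llcomp F W V W (A ∘ₗ T.ctr y ∘ₗ (g⁻¹ : V ≃ₗ[F] V).toLinearMap) ∘ₗ τ
  have hF : Fix T k x C := by
    refine ⟨hline, fun u w hu => ?_⟩
    rw [hkv, hX, Ten.lng_apply, Ten.lng_apply, T.ctr_tau, hu, zero_smul, map_zero, map_zero,
      sub_zero]
    rfl
  have hC0 : ∀ u, α u x = 0 → C u = 0 := fun u hu => by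
    obtain ⟨t, ht⟩ := fix_scalar S hx hkL hF u hu
    rw [ht, show t = 0 from ?_, zero_smul]
    by_contra ht0
    refine nsurj fun w => ⟨T.ctr y ((g⁻¹ : V ≃ₗ[F] V) (τ u (t⁻¹ • w))), ?_⟩
    have h3 := LinearMap.congr_fun ht (t⁻¹ • w)
    rw [LinearMap.smul_apply, Module.End.one_apply, smul_smul, mul_inv_cancel₀ ht0, one_smul] at h3
    exact h3
  have hp : ∀ u w, α u x = 0 → k (τ u w) = τ u w := fun u w hu => by
    rw [hF.perp u w hu, hC0 u hu, LinearMap.zero_apply, map_zero, add_zero]
  let φ : W →ₗ[F] W := -(T.ctr z ∘ₗ ((k : V →ₗ[F] V) - LinearMap.id) ∘ₗ τ z)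
  have hφ : ∀ w, k (τ z w) - τ z w = τ x (φ w) := fun w => by
    rw [T.mem_line hz (y := k (τ z w) - τ z w) fun u hu => ?_]
    · simp [φ, map_sub]
    · refine sub_eq_zero.1 ?_
      rw [map_sub]
      refine T.β_ext fun c => ?_
      rw [sub_zero, map_sub, LinearMap.sub_apply, T.β_ctr, T.β_ctr, map_zero, LinearMap.zero_apply,
        sub_eq_zero]
      conv_lhs => rw [← hp u c hu, S.ov.le hkL]
  obtain ⟨s, hs⟩ := long_of_fix S hkL hz hp hφ
  set N : W →ₗ[F] W := A ∘ₗ T.ctr y ∘ₗ (g⁻¹ : V ≃ₗ[F] V).toLinearMap ∘ₗ τ z - s • 1 with hN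
  have hYx : ∀ w, Y (τ x w) = τ x (N w) := fun w => by
    have h3 := hφ w
    rw [hkv, hXY, hX, T.lng_apply x (τ z w), T.ctr_tau, hz, one_smul, hs] at h3
    simp only [hN, LinearMap.sub_apply, LinearMap.smul_apply, Module.End.one_apply,
      LinearMap.comp_apply, LinearEquiv.coe_coe, map_sub, map_smul] at h3 ⊢
    linear_combination (norm := module) -h3
  have hNN : ∀ w, N (N w) = 0 := fun w => T.tau_inj hx <| by
    rw [← hYx, ← hYx, hY, T.cnj_cnj, map_zero]
  let Ab : W ≃ₗ[F] W :=
    { (LinearMap.id + N) with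
      invFun := fun w => w - N w
      left_inv := fun w => by simp [hNN]
      right_inv := fun w => by simp [hNN] }
  have hAb : ∀ w, Ab w = w + N w := fun w => rfl
  obtain ⟨p, hpb⟩ := parabolic S hb hx (A := Ab) fun w => by rw [hbv, hYx, hAb, map_add]
  obtain ⟨w₀, hw₀⟩ : ∃ w, N w ≠ 0 := by
    by_contra hc
    push Not at hc
    refine hA0 ?_
    have h3 : T.adj A = 0 := LinearMap.ext fun w => T.tau_inj hy <| g.injective <| by
      have h4 := hYx w
      rw [hc, map_zero, hY, hYX, neg_eq_zero] at h4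
      rw [h4, LinearMap.zero_apply, map_zero, map_zero]
    rw [← T.adj_adj A, h3]
    exact T.adj_eq fun _ _ => by simp
  have left_inj : ∀ {u : U} {w : W}, w ≠ 0 → τ u w = 0 → u = 0 := fun {u w} hw h => by
    by_contra hu
    exact hw (T.tau_inj hu (by rw [h, map_zero]))
  set P : U →ₗ[F] U := p - LinearMap.id with hP
  have hYv : ∀ u w, Y (τ u w) = τ (P u) (w + N w) + τ u (N w) := fun u w => by
    have h3 := hpb u w
    rw [hbv, hAb] at h3
    simp only [hP, LinearMap.sub_apply, LinearMap.id_apply, map_sub, map_add] at h3 ⊢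
    linear_combination (norm := module) h3
  have hYY : ∀ u w, τ (P (P u)) (w + (2 : F) • N w) + (2 : F) • τ (P u) (N w) = 0 := fun u w => by
    have h3 := T.cnj_cnj g y (τ u w)
    simp only [← hY, hYv, map_add, hNN, map_zero, add_zero] at h3
    simp only [map_add, map_smul, two_smul] at h3 ⊢
    linear_combination (norm := module) h3
  have hP0 : ∀ u, P u = 0 := by
    intro u
    have hPP : P (P u) = 0 := left_inj hw₀ <| by
      have h3 := hYY u (N w₀)
      rwa [hNN, smul_zero, add_zero, map_zero, smul_zero, add_zero] at h3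
    refine left_inj hw₀ ((smul_eq_zero.1 ?_).resolve_left T.h2)
    have h3 := hYY u w₀
    rwa [hPP, map_zero, LinearMap.zero_apply, zero_add] at h3
  have hY1 : ∀ u w, Y (τ u w) = τ u (N w) := fun u w => by
    rw [hYv, hP0, map_zero, LinearMap.zero_apply, zero_add]
  have hb1 : ∀ u w, b (τ u w) = τ u (w + N w) := fun u w => by rw [hbv, hY1, map_add]
  have hiso : ∀ w w', β (w + N w) (w' + N w') = β w w' := fun w w' => by
    have h3 := S.ov.le hb (τ z w) (τ x w')
    rwa [hb1, hb1, T.pair, T.pair, hz, one_mul, one_mul] at h3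
  have hNiso : ∀ v w, β (N v) (N w) = 0 := fun v w => by
    have h3 := hiso (N v) w
    simp only [hNN, add_zero, map_add] at h3
    linear_combination h3
  have hskew : ∀ v w, β (N v) w = -β v (N w) := fun v w => by
    have h3 := hiso v w
    simp only [map_add, LinearMap.add_apply, hNiso] at h3
    linear_combination h3
  set I := LinearMap.range N with hI
  have hkr : finrank F W = finrank F U * finrank F I := by
    have hr : LinearMap.range Y = LinearMap.range (blk τ I) := by
      refine le_antisymm ?_ ?_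
      · rintro _ ⟨v, rfl⟩
        have hle : (⊤ : Submodule F V) ≤ (LinearMap.range (blk τ I)).comap Y := by
          rw [← T.span, Submodule.span_le]
          rintro _ ⟨⟨u, w⟩, rfl⟩
          show Y (τ u w) ∈ LinearMap.range (blk τ I)
          rw [hY1]
          exact tau_mem_blk I u ⟨w, rfl⟩
        exact hle trivial
      · rintro _ ⟨f, rfl⟩
        rw [blk_apply]
        refine Submodule.sum_mem _ fun i _ => ?_
        obtain ⟨w, hw⟩ := (f i).2
        exact ⟨τ (Module.finBasis F U i) w, by rw [hY1, hw]⟩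
    have hr2 : LinearMap.range Y = LinearMap.range ((g : V →ₗ[F] V) ∘ₗ τ y) := by
      refine le_antisymm ?_ ?_
      · rintro _ ⟨v, rfl⟩
        exact ⟨_, rfl⟩
      · rintro _ ⟨w, rfl⟩
        refine ⟨g (τ y' w), ?_⟩
        rw [hY, Ten.cnj_apply, T.inv_act, T.ctr_tau, hy', one_smul]
        rfl
    rw [← finrank_range_blk T I, ← hr, hr2]
    exact (LinearMap.finrank_range_of_inj fun w w' e => T.tau_inj hy (g.injective e)).symm
  have hr2 : 2 ≤ finrank F I := by
    by_contra hr
    obtain ⟨⟨e, he⟩, hgen⟩ := finrank_le_one_iff.1 (show finrank F I ≤ 1 by omega)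
    choose lam hlam using fun w => hgen ⟨N w, w, rfl⟩
    have hl : ∀ w, N w = lam w • e := fun w => (congrArg Subtype.val (hlam w)).symm
    have he0 : e ≠ 0 := fun h => hw₀ (by rw [hl, h, smul_zero])
    obtain ⟨d, hd⟩ : ∃ d, β d e ≠ 0 := Symp.exists_apply_ne_zero T.nβ he0
    have hld : lam d = 0 := by
      have h3 := hskew d d
      rw [hl, map_smul, map_smul, LinearMap.smul_apply, smul_eq_mul, smul_eq_mul, T.sβ e d] at h3
      exact (mul_eq_zero.1 ((mul_eq_zero.1 (show (2 : F) * (lam d * β d e) = 0 by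
        linear_combination h3)).resolve_left T.h2)).resolve_right hd
    have h3 := hskew w₀ d
    rw [hl, hl d, hld, zero_smul, map_zero, neg_zero, map_smul, LinearMap.smul_apply, smul_eq_mul,
      T.sβ e d] at h3
    exact hw₀ (by rw [hl, (mul_eq_zero.1 h3).resolve_right hd, zero_smul])
  have hfix : ∀ (R : W →ₗ[F] W), (∀ w ∈ I, R w = w) → ∀ (h : V ≃ₗ[F] V),
      (∀ u w, h (τ u w) = τ u (R w)) → ∀ w, h (g (τ y w)) = g (τ y w) := by
    intro R hR h hh w
    have e : (h : V →ₗ[F] V) ∘ₗ Y = Y := T.hom_ext fun u w => by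
      rw [LinearMap.comp_apply, hY1, LinearEquiv.coe_coe, hh, hR _ ⟨w, rfl⟩]
    have hw : g (τ y w) = Y (g (τ y' w)) := by
      rw [hY, Ten.cnj_apply, T.inv_act, T.ctr_tau, hy', one_smul]
    rw [hw]
    exact LinearMap.congr_fun e _
  have hn₁ := two_le_finrank T hx
  by_cases hU : finrank F U = 2
  · -- two factors: a root element of the totally singular space
    have hk4 := S.hn hU
    have hI3 : 3 ≤ finrank F I := by rw [hU] at hkr; omega
    obtain ⟨e, heI, he0⟩ : ∃ e ∈ I, e ≠ 0 := ⟨N w₀, ⟨w₀, rfl⟩, hw₀⟩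
    obtain ⟨f, hfI, hfe⟩ : ∃ f ∈ I, f ∉ Submodule.span F {e} :=
      SetLike.not_le_iff_exists.1 fun hle => by
        have := Submodule.finrank_mono hle
        rw [finrank_span_singleton he0] at this
        omega
    have hII : ∀ v ∈ I, ∀ w ∈ I, β v w = 0 := by
      rintro _ ⟨v, rfl⟩ _ ⟨w, rfl⟩
      exact hNiso v w
    let R : W →ₗ[F] W := LinearMap.id + (β.flip e).smulRight f - (β.flip f).smulRight e
    have hR : ∀ w, R w = w + β w e • f - β w f • e := fun w => by simp [R]
    have hRid := eq_one_of_fix S hg hy (R := R) (D := Submodule.span F ({e, f} : Set W))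
      (fun u v => by
        simp only [hR, map_add, map_sub, map_smul, LinearMap.add_apply, LinearMap.sub_apply,
          LinearMap.smul_apply, smul_eq_mul, hII _ heI _ hfI, hII _ hfI _ heI, hII _ heI _ heI,
          hII _ hfI _ hfI, T.sβ f v, T.sβ e v]
        ring)
      (fun w => Submodule.mem_span_pair.2 ⟨-β w f, β w e, by rw [hR]; module⟩)
      (by
        classical
        have h4 : finrank F (Submodule.span F ({e, f} : Set W)) ≤ 2 := by
          have := finrank_span_finset_le_card (R := F) ({e, f} : Finset W)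
          rw [show (({e, f} : Finset W) : Set W) = {e, f} by simp] at this
          exact this.trans Finset.card_le_two
        rw [hU] at hkr ⊢
        omega)
      (fun h hh => hfix R (fun w hw => by
        rw [hR, hII w hw e heI, hII w hw f hfI]; simp) h hh)
    obtain ⟨d, hd⟩ : ∃ d, β d e ≠ 0 := Symp.exists_apply_ne_zero T.nβ he0
    have h3 : β d e • f - β d f • e = 0 := by
      have h4 := hRid d
      rw [hR, add_sub_assoc] at h4
      exact add_eq_left.1 h4
    exact hfe (Submodule.mem_span_singleton.2 ⟨(β d e)⁻¹ * β d f, by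
      rw [mul_smul, ← sub_eq_zero.1 h3, smul_smul, inv_mul_cancel₀ hd, one_smul]⟩)
  · -- more factors: a reflection centralising the totally singular space
    obtain ⟨c, hcI, hc⟩ : ∃ c ∈ β.orthogonal I, β c c ≠ 0 := by
      by_contra hno
      push Not at hno
      have hrefl : β.IsRefl := fun u v h => by rw [T.sβ]; exact h
      have hiso' : ∀ u ∈ β.orthogonal I, ∀ v ∈ β.orthogonal I, β u v = 0 := fun u hu v hv => by
        have h3 := hno _ (add_mem hu hv)
        rw [map_add, map_add, LinearMap.add_apply, LinearMap.add_apply, hno u hu, hno v hv,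
          T.sβ v u] at h3
        exact (mul_eq_zero.1 (show (2 : F) * β u v = 0 by linear_combination h3)).resolve_left T.h2
      have hle : β.orthogonal I ≤ I := by
        intro u hu
        rw [← LinearMap.BilinForm.orthogonal_orthogonal T.nβ hrefl I]
        exact fun v hv => hiso' v hv u hu
      have h3 := Submodule.finrank_mono hle
      rw [LinearMap.BilinForm.finrank_orthogonal T.nβ] at h3
      have : 3 * finrank F I ≤ finrank F U * finrank F I :=
        Nat.mul_le_mul_right _ (by omega)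
      omega
    have hcI' : ∀ w ∈ I, β w c = 0 := fun w hw => hcI w hw
    have hne : c ≠ 0 := fun h => hc (by simp [h])
    have hRid := eq_one_of_fix S hg hy (R := refl β c) (D := Submodule.span F ({c} : Set W))
      (fun u v => T.refl_iso hc u v)
      (fun w => Submodule.mem_span_singleton.2 ⟨-(2 / β c c * β w c), by rw [refl_apply]; module⟩)
      (by
        rw [finrank_span_singleton hne, mul_one, hkr]
        calc finrank F U < finrank F U * 2 := by omega
          _ ≤ _ := Nat.mul_le_mul_left _ hr2)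
      (fun h hh => hfix _ (fun w hw => by rw [refl_apply, hcI' w hw, mul_zero, zero_smul, sub_zero])
        h hh)
    have h3 := hRid c
    rw [T.refl_self hc, neg_eq_iff_add_eq_zero, ← two_smul F, smul_eq_zero] at h3
    rcases h3 with h3 | h3
    · exact T.h2 h3
    · exact hne h3

end Cfsg.Lib.Linear.SpOTensor
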