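import Cfsg.Agent.Lib.Linear.SpOTensor.Dat
import Cfsg.Agent.Lib.Linear.SpOTensor.Idem

/-!
# A singular coefficient with two eigenvalues in characteristic three
-/

set_option autoImplicit false
set_option linter.unusedSectionVars false

namespace Cfsg.Lib.Linear.SpOTensor

open Module
open Cfsg.Lib.Linear

variable {F V U W : Type*} [Field F] [AddCommGroup V] [Module F V] [FiniteDimensional F V]
  [AddCommGroup U] [Module F U] [FiniteDimensional F U]
  [AddCommGroup W] [Module F W] [FiniteDimensional F W]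
  {B : LinearMap.BilinForm F V} {α : LinearMap.BilinForm F U} {β : LinearMap.BilinForm F W}
  {τ : U →ₗ[F] W →ₗ[F] V} {T : Ten B α β τ} {L : Subgroup (V ≃ₗ[F] V)}

/-- The entry of the product of a long map with a conjugate by an isometry of the second factor. -/
theorem entry_conj (S : Sit T L) {x z : U} (hz : α z x = 1) {Y : V →ₗ[F] V} {M : Module.End F W}
    (D : Dat T L x Y M) {C : W →ₗ[F] W} (hY : ∀ w, Y (τ x w) = τ z (M w) + τ x (C w))
    {R R' : W →ₗ[F] W} (hR : ∀ u w, β (R u) (R w) = β u w) (hR' : ∀ w, R (R' w) = w) :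
    ∃ h ∈ L, ∀ w, T.ent h x x w =
      M w - R (M (R' w)) + T.adj C (R (M (R' w))) - M (R (C (R' w))) := by
  obtain ⟨b, hb, hbv⟩ := D.mem 1
  simp only [one_smul] at hbv
  obtain ⟨r, hr, hrv⟩ := S.ov.pure LinearMap.id R 1 one_ne_zero (fun a c => by rw [one_mul]; rfl)
    (fun u w => by rw [hR, inv_one, one_mul])
  have hbi : ∀ v, (b⁻¹ : V ≃ₗ[F] V) v = v - Y v := fun v => by
    have : b (v - Y v) = v := by rw [hbv, map_sub, D.sq, sub_zero, sub_add_cancel]
    conv_lhs => rw [← this]
    exact T.inv_act _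
  have hri : ∀ w, (r⁻¹ : V ≃ₗ[F] V) (τ x w) = τ x (R' w) := fun w => by
    have : r (τ x (R' w)) = τ x w := by rw [hrv, LinearMap.id_apply, hR']
    conv_lhs => rw [← this]
    exact T.inv_act _
  have hzC : ∀ v, T.ctr x (Y (τ z v)) = -T.adj C v := fun v => T.β_ext fun w => by
    rw [D.β_ctrY S, hY, map_add, T.pair, T.pair, T.α_self, hz, zero_mul, zero_add, one_mul,
      map_neg, LinearMap.neg_apply, T.β_adj]
  refine ⟨b * r * b⁻¹ * r⁻¹, mul_mem (mul_mem (mul_mem hb hr) (inv_mem hb)) (inv_mem hr),
    fun w => ?_⟩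
  rw [Ten.ent_apply, LinearEquiv.mul_apply, LinearEquiv.mul_apply, LinearEquiv.mul_apply, hri, hbi,
    map_sub, hrv, LinearMap.id_apply, hR', hY, map_add, hrv, hrv, LinearMap.id_apply,
    LinearMap.id_apply, hbv]
  simp only [map_sub, map_add, T.ctr_tau, T.α_self, hz, one_smul, zero_smul, hzC, D.coef]
  abel

theorem two_refl_comm (a : W) (C : W →ₗ[F] W) {f : W →ₗ[F] W} (s : F)
    (h : ∀ w, f w = s • (C w - refl β a (C (refl β a w)))) : Two f := by
  refine ⟨C a, a, fun w => Submodule.mem_span_pair.2
    ⟨s * (2 / β a a * β w a), s * (2 / β a a * β (C (refl β a w)) a), ?_⟩⟩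
  have e1 : C w - C (refl β a w) = (2 / β a a * β w a) • C a := by
    rw [refl_apply, map_sub, map_smul]
    abel
  rw [h, refl_apply β a (C (refl β a w))]
  linear_combination (norm := module) -(s • e1)

variable (S : Sit T L)
include S

/-- A transvection-like conjugate of a coefficient idempotent gives a contradiction. -/
theorem siegel_contra {x z : U} (hz : α z x = 1) {Y : V →ₗ[F] V} {M : Module.End F W}
    (D : Dat T L x Y M) {C : W →ₗ[F] W} (hY : ∀ w, Y (τ x w) = τ z (M w) + τ x (C w))
    {l s : F} (hl : l ≠ 0) (hs : s ≠ 0) {e ε : W →ₗ[F] W} (I : Idem β ε) (hM : ∀ w, M w = l • e w)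
    {a n : W} (ha : β a a ≠ 0) (hn : β n n = 0) (hn0 : n ≠ 0) (hεa : ε a = a) (hεn : ε n = 0)
    (hcomm : ∀ R R' : W →ₗ[F] W, (∀ w, R w = w + β w n • a - β w a • n - (β a a / 2 * β w n) • n) →
      (∀ w, R' w = w - β w n • a + β w a • n - (β a a / 2 * β w n) • n) →
      ∀ w, T.adj C (R (M (R' w))) = M (R (C (R' w))))
    (hkey : ∀ R R' : W →ₗ[F] W, (∀ w, R (R' w) = w) → ∀ w,
      ε w - R (ε (R' w)) = s • (e w - R (e (R' w)))) : False := by
  have han : β a n = 0 := by rw [← hεa, I.symm, hεn, map_zero]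
  have hna : β n a = 0 := by rw [T.sβ, han]
  have hx : x ≠ 0 := fun h => by simp [h] at hz
  set κ := β a a / 2 with hκ
  let R : W →ₗ[F] W := LinearMap.id + (β.flip n).smulRight a - (β.flip a).smulRight n -
    (κ • β.flip n).smulRight n
  let R' : W →ₗ[F] W := LinearMap.id - (β.flip n).smulRight a + (β.flip a).smulRight n -
    (κ • β.flip n).smulRight n
  have hR : ∀ w, R w = w + β w n • a - β w a • n - (κ * β w n) • n := fun w => by simp [R]
  have hR' : ∀ w, R' w = w - β w n • a + β w a • n - (κ * β w n) • n := fun w => by simp [R']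
  have h2κ : β a a = 2 * κ := by rw [hκ, mul_div_cancel₀ _ T.h2]
  have hRR : ∀ w, R (R' w) = w := fun w => by
    simp only [hR, hR', map_add, map_sub, map_smul, LinearMap.add_apply, LinearMap.sub_apply,
      LinearMap.smul_apply, smul_eq_mul, han, hna, hn, h2κ]
    module
  have hRiso : ∀ u w, β (R u) (R w) = β u w := fun u w => by
    simp only [hR, map_add, map_sub, map_smul, LinearMap.add_apply, LinearMap.sub_apply,
      LinearMap.smul_apply, smul_eq_mul, han, hna, hn, T.sβ a w, T.sβ n w, h2κ]
    ring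
  obtain ⟨h, hh, hent⟩ := entry_conj S hz D hY hRiso hRR
  have hG : ∀ w, ε w - R (ε (R' w)) = β w a • n + β w n • a - (β a a * β w n) • n := fun w => by
    have h1 : ε (R' w) = ε w - β w n • a := by rw [hR']; simp [hεa, hεn]
    have h2 : β (ε w) a = β w a := by rw [I.symm, hεa]
    have h3 : β (ε w) n = 0 := by rw [I.symm, hεn, map_zero]
    rw [h1, map_sub, map_smul, hR, hR a, h2, h3, han]
    module
  set f := T.ent h x x with hfdef
  have hf : ∀ w, f w = (l / s) • (β w a • n + β w n • a - (β a a * β w n) • n) := fun w => by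
    rw [hent, hcomm R R' hR hR' w, add_sub_cancel_right, hM, hM, map_smul, ← hG, hkey R R' hRR,
      smul_smul, div_mul_cancel₀ _ hs, smul_sub]
  have hf0 : f = 0 := by
    refine ent_eq_zero_of_nil S hh hx (T.adj_eq fun u w => ?_) fun w => ?_
    · rw [← hfdef, hf, hf]
      simp only [map_add, map_sub, map_smul, LinearMap.add_apply, LinearMap.sub_apply,
        LinearMap.smul_apply, smul_eq_mul, T.sβ n w, T.sβ a w]
      ring
    · rw [← hfdef]
      simp only [hf, map_add, map_sub, map_smul, LinearMap.add_apply, LinearMap.sub_apply,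
        LinearMap.smul_apply, smul_eq_mul, han, hna, hn]
      module
  have h1 := LinearMap.congr_fun hf0 a
  rw [hf, han, zero_smul, add_zero, mul_zero, zero_smul, sub_zero, LinearMap.zero_apply, smul_smul,
    smul_eq_zero] at h1
  rcases h1 with h1 | h1
  · exact mul_ne_zero (div_ne_zero hl hs) ha h1
  · exact hn0 h1

/-- A coefficient which is a multiple of a proper idempotent is impossible. -/
theorem no_idem [Fintype F] (h3 : (3 : F) = 0) (hk4 : 4 ≤ finrank F W) {x : U} (hx : x ≠ 0)
    {Y : V →ₗ[F] V} {M : Module.End F W} (D : Dat T L x Y M)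
    (low : Low T L x (finrank F (LinearMap.range M))) {l : F} (hl : l * l = 1)
    (hM : ∀ w, M (M w) = l • M w) {w₁ w₀ : W} (hw₁ : M w₁ ≠ 0) (hw₀ : w₀ ≠ 0) (hMw₀ : M w₀ = 0) :
    False := by
  classical
  obtain ⟨z, hz⟩ := T.exists_one hx
  have hl0 : l ≠ 0 := fun h => by simp [h] at hl
  set e : W →ₗ[F] W := l • M with he
  have hee : ∀ w, e (e w) = e w := fun w => by
    simp only [he, LinearMap.smul_apply, map_smul, hM, smul_smul, hl, one_mul, mul_one, mul_assoc]
  have hMe : ∀ w, M w = l • e w := fun w => by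
    rw [he, LinearMap.smul_apply, smul_smul, hl, one_smul]
  have heM : ∀ w, M (e w) = M w := fun w => by
    rw [he, LinearMap.smul_apply, map_smul, hM, smul_smul, hl, one_smul]
  have hMsym : ∀ u w, β (M u) w = β u (M w) := fun u w => by
    rw [← T.β_adj, D.adj_coef S]
  have I : Idem β e := ⟨hee, fun u w => by
    simp only [he, LinearMap.smul_apply, map_smul, hMsym]⟩
  have hYe : ∀ w, Y (τ x (e w)) = Y (τ x w) := fun w => by
    have h1 := D.ker (w - e w) (by rw [map_sub, heM, sub_self])
    rw [map_sub, map_sub, sub_eq_zero] at h1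
    exact h1.symm
  have hYE : ∀ v, e (T.ctr x (Y v)) = T.ctr x (Y v) := fun v => T.β_ext fun w => by
    rw [I.symm, D.β_ctrY S, D.β_ctrY S, hYe]
  -- the element squaring the two long maps
  obtain ⟨b, hb, hbv⟩ := D.mem 1
  obtain ⟨a, ha, hav⟩ := exists_long S x l
  simp only [one_smul] at hbv
  have hav' : ∀ v, a v = v + τ x (l • T.ctr x v) := fun v => by rw [hav, map_smul]; rfl
  set k := b * a * b * a with hk
  have hkL : k ∈ L := mul_mem (mul_mem (mul_mem hb ha) hb) ha
  have hkx : ∀ w, k (τ x w) = τ x (w + e w) := fun w => by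
    simp only [hk, LinearEquiv.mul_apply, hav', hbv, map_add, map_smul, T.ctr_tau, T.α_self,
      zero_smul, smul_zero, D.coef, map_zero, add_zero, D.sq, zero_add]
    rw [show l • τ x (M w) = τ x (e w) by rw [he, LinearMap.smul_apply, map_smul],
      show l • Y (τ x (M w)) = Y (τ x w) by
        rw [← hYe w, he, LinearMap.smul_apply, map_smul, map_smul]]
    linear_combination (norm := module) congrArg (fun c : F => c • Y (τ x w)) h3
  have hkY : ∀ w, k (Y (τ x w)) = -Y (τ x w) := fun w => by
    simp only [hk, LinearEquiv.mul_apply, hav', hbv, map_add, map_smul, T.ctr_tau, T.α_self,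
      zero_smul, smul_zero, D.coef, map_zero, add_zero, D.sq, zero_add]
    have e1 : l • τ x (M w) = τ x (e w) := by rw [he, LinearMap.smul_apply, map_smul]
    have e2 : l • Y (τ x (M w)) = Y (τ x w) := by
      rw [← hYe w, he, LinearMap.smul_apply, map_smul, map_smul]
    simp only [smul_add, hM, map_smul, e1, e2, smul_smul, hl, one_smul]
    rw [hYe]
    linear_combination (norm := module) congrArg (fun c : F => c • (τ x (e w) + (2 : F) • Y (τ x w))) h3
  let d : V →ₗ[F] V := τ x ∘ₗ (l • (T.ctr x ∘ₗ Y)) + Y ∘ₗ τ x ∘ₗ (l • T.ctr x)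
  have hd : ∀ v, d v = τ x (l • T.ctr x (Y v)) + Y (τ x (l • T.ctr x v)) := fun v => rfl
  have hk3 : ∀ v, k (k (k v)) = v + d v := by
    intro v
    have hkd : k (d v) = -d v := by
      rw [hd, map_add, hkx, hkY, map_smul e, hYE]
      have e1 : (3 : F) • τ x (l • T.ctr x (Y v)) = 0 := by rw [h3, zero_smul]
      simp only [map_add, map_smul] at e1 ⊢
      linear_combination (norm := module) e1
    set v' := v - d v with hv'
    have hc' : M (T.ctr x v') = 0 := by
      rw [hv', hd, map_sub, map_add, T.ctr_tau, T.α_self, zero_smul, zero_add, D.coef, map_sub,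
        map_smul, map_smul, hM, smul_smul, hl, one_smul, sub_self]
    have hY' : T.ctr x (Y v') = 0 := by
      rw [hv', hd, map_sub, map_add, D.sq, add_zero, map_sub, D.coef, map_smul, ← heM]
      rw [hMe, hee, hYE, smul_smul, hl, one_smul, sub_self]
    have hkv : k v' = v' + (2 : F) • (Y v' + τ x (l • T.ctr x v')) := by
      simp only [hk, LinearEquiv.mul_apply, hav', hbv, map_add, map_smul, T.ctr_tau, T.α_self,
        zero_smul, smul_zero, D.coef, map_zero, add_zero, D.sq, zero_add, hY', hc', D.ker _ hc',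
        smul_add]
      module
    have hkY' : k (Y v') = Y v' := by
      simp only [hk, LinearEquiv.mul_apply, hav', hbv, map_zero, smul_zero, hY', add_zero, D.sq]
    have hkc : k (τ x (T.ctr x v')) = τ x (T.ctr x v') := by
      rw [hkx, he, LinearMap.smul_apply, hc', smul_zero, add_zero]
    have hv3 : k (k (k v')) = v' := by
      simp only [hkv, map_add, map_smul, hkY', hkc]
      have e1 : (3 : F) • ((2 : F) • (Y v' + τ x (l • T.ctr x v'))) = 0 := by rw [h3, zero_smul]
      rw [map_smul] at e1
      linear_combination (norm := module) e1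
    conv_lhs => rw [show v = v' + d v by rw [hv']; abel]
    simp only [map_add, map_neg, hkd, hv3, neg_neg]
    rw [hv']
    have e1 : (3 : F) • d v = 0 := by rw [h3, zero_smul]
    linear_combination (norm := module) -e1
  -- the element is a product
  have hinv : Function.Involutive (LinearMap.id + e : W →ₗ[F] W) := fun w => by
    simp only [LinearMap.add_apply, LinearMap.id_apply, map_add, hee]
    have e1 : (3 : F) • e w = 0 := by rw [h3, zero_smul]
    linear_combination (norm := module) e1
  let Ak : W ≃ₗ[F] W := LinearEquiv.ofInvolutive _ hinv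
  have hAk : ∀ w, Ak w = w + e w := fun w => rfl
  obtain ⟨p, hp⟩ := parabolic S hkL hx (A := Ak) fun w => by rw [hkx, hAk]
  set π := p ∘ₗ p ∘ₗ p with hπ
  have hAA : ∀ w, Ak (Ak (Ak w)) = w + e w := fun w => by
    rw [hAk w]; exact hinv _
  have hdv : ∀ u w, d (τ u w) = τ (π u) (w + e w) - τ u w := fun u w => by
    have h1 := hk3 (τ u w)
    rw [hp, hp, hp, hAA] at h1
    rw [show π u = p (p (p u)) from rfl, h1]
    abel
  have hew₀ : e w₀ = 0 := by rw [he, LinearMap.smul_apply, hMw₀, smul_zero]
  have hπ1 : ∀ u, π u = u := by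
    intro u
    by_contra hne
    have hY0 : Y (τ x (l • (α u x • w₀))) = 0 := D.ker _ (by simp [hMw₀])
    have h1 := hdv u w₀
    rw [hd, T.ctr_tau, hY0, add_zero, hew₀, add_zero, ← LinearMap.sub_apply, ← map_sub] at h1
    obtain ⟨z', hz'⟩ := T.exists_one (sub_ne_zero.2 hne)
    have h2 := congrArg (fun v => e (T.ctr z' v)) h1
    simp only [T.ctr_tau, map_smul, hew₀, smul_zero, hYE] at h2
    have h4 : l • T.ctr x (Y (τ u w₀)) = 0 ∨ α x z' = 0 := by
      rcases smul_eq_zero.1 h2 with h | h
      · exact absurd h hl0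
      · rcases smul_eq_zero.1 h with h | h
        · exact Or.inr h
        · exact Or.inl (by rw [h, smul_zero])
    have h5 := congrArg (T.ctr z') h1
    rw [T.ctr_tau, T.ctr_tau, T.α_symm (π u - u), hz'] at h5
    rcases h4 with h | h
    · rw [h, smul_zero] at h5
      exact hw₀ (by simpa using h5.symm)
    · rw [h, zero_smul] at h5
      exact hw₀ (by simpa using h5.symm)
  have hdv' : ∀ u w, d (τ u w) = τ u (e w) := fun u w => by
    rw [hdv, hπ1, map_add, add_sub_cancel_left]
  -- the first factor is a plane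
  have hperp : ∀ u, α u x = 0 → ∃ t : F, u = t • x := by
    intro u hu
    have hew₁ : e w₁ ≠ 0 := by
      rw [he, LinearMap.smul_apply]; exact smul_ne_zero hl0 hw₁
    have h1 := hdv' u w₁
    rw [hd, T.ctr_tau, hu, zero_smul, smul_zero, map_zero, map_zero, add_zero] at h1
    set c := l • T.ctr x (Y (τ u w₁))
    obtain ⟨φ, hφ, -⟩ := Submodule.exists_dual_map_eq_bot_of_notMem (x := e w₁)
      (p := (⊥ : Submodule F W)) (by simpa using hew₁) inferInstance
    refine ⟨φ c / φ (e w₁), T.α_ext fun y => ?_⟩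
    have h2 := congrArg (fun v => φ (T.ctr y v)) h1
    simp only [T.ctr_tau, map_smul, smul_eq_mul] at h2
    rw [map_smul, LinearMap.smul_apply, smul_eq_mul, div_mul_eq_mul_div, eq_div_iff hφ]
    linear_combination -h2
  have hU : finrank F U = 2 := by
    refine le_antisymm ?_ (two_le_finrank T hx)
    have hle : (⊤ : Submodule F U) ≤ Submodule.span F (({x, z} : Finset U) : Set U) := by
      intro u _
      obtain ⟨t, ht⟩ := hperp (u - α u x • z) (by simp [hz])
      rw [sub_eq_iff_eq_add] at ht
      rw [ht, Finset.coe_insert, Finset.coe_singleton]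
      exact add_mem (Submodule.smul_mem _ _ (Submodule.subset_span (Set.mem_insert _ _)))
        (Submodule.smul_mem _ _ (Submodule.subset_span (Set.mem_insert_of_mem _ rfl)))
    have := Submodule.finrank_mono hle
    rw [finrank_top] at this
    exact this.trans ((finrank_span_finset_le_card _).trans Finset.card_le_two)
  have hk5 : 5 ≤ finrank F W := by have := S.hn hU; omega
  have hdec : ∀ v, v = τ z (T.ctr x v) - τ x (T.ctr z v) := fun v => by
    refine T.eq_of_ctr fun u => ?_
    obtain ⟨t, ht⟩ := hperp (u - α u x • z) (by simp [hz])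
    rw [sub_eq_iff_eq_add] at ht
    rw [map_sub, T.ctr_tau, T.ctr_tau, ht]
    simp only [map_add, map_smul, LinearMap.add_apply, LinearMap.smul_apply, T.α_self,
      T.α_symm x z, hz, smul_eq_mul, mul_zero, mul_one, mul_neg, zero_add, add_zero]
    module
  let C : W →ₗ[F] W := -(T.ctr z ∘ₗ Y ∘ₗ τ x)
  have hYC : ∀ w, Y (τ x w) = τ z (M w) + τ x (C w) := fun w => by
    conv_lhs => rw [hdec (Y (τ x w)), D.coef]
    simp [C, sub_eq_add_neg]
  have hCe : ∀ w, C (e w) = C w := fun w => by simp [C, hYe]
  have hCadj : T.adj C = C := by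
    refine LinearMap.ext fun w => T.tau_inj hx ?_
    have h1 := hdv' z w
    have hzC : T.ctr x (Y (τ z w)) = -T.adj C w := T.β_ext fun c => by
      rw [D.β_ctrY S, hYC, map_add, T.pair, T.pair, T.α_self, hz, zero_mul, zero_add, one_mul,
        map_neg β, LinearMap.neg_apply]
      exact congrArg Neg.neg (T.β_adj C w c).symm
    rw [hd, T.ctr_tau, hz, one_smul, hzC, map_smul (τ x) l w, map_smul Y, hYC] at h1
    simp only [hMe w, map_smul, map_neg, smul_neg, smul_add, smul_smul, hl, one_smul] at h1
    have h2 : l • τ x (T.adj C w) = l • τ x (C w) := by linear_combination (norm := module) -h1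
    exact smul_right_injective V hl0 h2
  have hCsym : ∀ u w, β (C u) w = β u (C w) := fun u w => by rw [← T.β_adj, hCadj]
  have heC : ∀ w, e (C w) = C w := fun w => T.β_ext fun c => by
    rw [I.symm, hCsym, hCe, ← hCsym]
  have heR : ∀ R R' : W →ₗ[F] W, (∀ w, R (R' w) = w) → ∀ w,
      (LinearMap.id - e : W →ₗ[F] W) w - R ((LinearMap.id - e : W →ₗ[F] W) (R' w)) =
        (-1 : F) • (e w - R (e (R' w))) := fun R R' hRR w => by
    simp only [LinearMap.sub_apply, LinearMap.id_apply, map_sub, hRR]
    module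
  by_cases hsing : 3 ≤ finrank F (LinearMap.range (LinearMap.id - e))
  · -- a singular vector outside the image
    obtain ⟨n, hn1, hn0, hn⟩ := I.compl.exists_singular T hsing
    have hen : e n = 0 := by
      simpa [sub_eq_self] using hn1
    obtain ⟨a, hea, haa⟩ := I.exists_aniso T (Nat.pos_of_ne_zero fun h0 => by
      rw [Submodule.finrank_eq_zero, LinearMap.range_eq_bot] at h0
      exact hw₁ (by rw [hMe, h0]; simp))
    refine siegel_contra S hz D hYC hl0 one_ne_zero I (fun w => hMe w) haa hn hn0 hea hen (fun R R' hR hR' w => ?_)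
      (fun R R' _ w => by rw [one_smul])
    have hQ : ∀ u, e u = u → e (R u) = u := fun u hu => by
      have hun : β u n = 0 := by rw [← hu, I.symm, hen, map_zero]
      rw [hR, hun]
      simp [hu, hen]
    rw [hCadj, hMe, hMe, map_smul, map_smul]
    congr 1
    rw [← hCe (R (e (R' w))), hQ _ (hee _), hQ _ (heC _), hCe]
  · -- a singular vector in the image
    have hsum := I.rank_compl
    have hd3 : 3 ≤ finrank F (LinearMap.range e) := by omega
    have hrank : finrank F (LinearMap.range M) = finrank F (LinearMap.range e) := by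
      rw [he, LinearMap.range_smul _ _ hl0]
    have heig : ∀ a, e a = a → β a a ≠ 0 → C a = (β (C a) a / β a a) • a := by
      intro a hea haa
      have here : ∀ w, e (refl β a w) = refl β a (e w) := fun w => by
        rw [refl_apply, refl_apply, map_sub, map_smul, hea, I.symm, hea]
      obtain ⟨h, hh, hent⟩ := entry_conj S hz D hYC (R := refl β a) (R' := refl β a)
        (T.refl_iso haa) (T.refl_refl haa)
      have hA : ∀ w, T.ent h x x w = l • (C w - refl β a (C (refl β a w))) := fun w => by
        have h1 : refl β a (e (refl β a w)) = e w := by rw [← here, T.refl_refl haa]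
        rw [hent, hCadj, hMe, hMe, hMe, map_smul, map_smul, h1, hCe, here, heC, smul_sub]
        abel
      have h0 := low h hh (lt_of_le_of_lt (two_refl_comm a C l hA).finrank_le (by omega))
      have h1 := hA a
      rw [h0, LinearMap.zero_apply, eq_comm, smul_eq_zero, or_iff_right hl0, T.refl_self haa,
        map_neg, map_neg, refl_apply, sub_neg_eq_add] at h1
      have h2 : (2 : F) • C a = (2 / β a a * β (C a) a) • a := by
        linear_combination (norm := module) h1
      have h4 := congrArg (fun u => (2 : F)⁻¹ • u) h2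
      simp only [smul_smul, inv_mul_cancel₀ T.h2, one_smul] at h4
      conv_lhs => rw [h4]
      congr 1
      field_simp [T.h2]
    obtain ⟨n, hen, hn0, hn⟩ := I.exists_singular T hd3
    obtain ⟨y, hy⟩ := Symp.exists_apply_ne_zero T.nβ hn0
    set f₀ := (β y n)⁻¹ • e y with hf₀
    set f := f₀ - (β f₀ f₀ / 2) • n with hf
    have hef₀ : e f₀ = f₀ := by rw [hf₀, map_smul, hee]
    have hef : e f = f := by rw [hf, map_sub, hef₀, map_smul, hen]
    have hf₀n : β f₀ n = 1 := by
      rw [hf₀, map_smul, LinearMap.smul_apply, I.symm, hen, smul_eq_mul, inv_mul_cancel₀ hy]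
    have hfn : β f n = 1 := by
      rw [hf]
      simp [hn, hf₀n]
    have hnf : β n f = 1 := by rw [T.sβ, hfn]
    have hff : β f f = 0 := by
      have hnf₀ : β n f₀ = 1 := by rw [T.sβ, hf₀n]
      rw [hf]
      simp only [map_sub, map_smul, LinearMap.sub_apply, LinearMap.smul_apply, smul_eq_mul, hn,
        hnf₀, hf₀n]
      field_simp [T.h2]
      ring
    set a₁ := n + f with ha₁
    set a₂ := n - f with ha₂
    have h11 : β a₁ a₁ = 2 := by simp [ha₁, hn, hff, hfn, hnf]; norm_num
    have h22 : β a₂ a₂ = -2 := by simp [ha₂, hn, hff, hfn, hnf]; ring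
    have he1 : e a₁ = a₁ := by rw [ha₁, map_add, hen, hef]
    have he2 : e a₂ = a₂ := by rw [ha₂, map_sub, hen, hef]
    have h11' : β a₁ a₁ ≠ 0 := by rw [h11]; exact T.h2
    have h22' : β a₂ a₂ ≠ 0 := by rw [h22]; exact neg_ne_zero.2 T.h2
    have h21 : β a₂ a₁ = 0 := by simp [ha₁, ha₂, hn, hff, hfn, hnf]
    obtain ⟨e₁, I₁, h1e, h1a, h1fix, hr1⟩ := I.drop T he1 h11'
    obtain ⟨e₂, I₂, h2e, h2a, -, hr2⟩ := I₁.drop T (h1fix a₂ he2 h21) h22'
    obtain ⟨g, hg2, hgg⟩ := I₂.exists_aniso T (by omega)
    have hg1 : e₁ g = g := by rw [← hg2]; exact h2e _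
    have hge : e g = g := by rw [← hg1]; exact h1e _
    have hga1 : β g a₁ = 0 := by rw [← hg1]; exact h1a _
    have hga2 : β g a₂ = 0 := by rw [← hg2]; exact h2a _
    set a₃ := a₁ + a₂ + g with ha₃
    have he3 : e a₃ = a₃ := by rw [ha₃, map_add, map_add, he1, he2, hge]
    have h12 : β a₁ a₂ = 0 := by rw [T.sβ, h21]
    have h31 : β a₃ a₁ = 2 := by simp [ha₃, h11, h21, hga1]
    have h32 : β a₃ a₂ = -2 := by simp [ha₃, h22, h12, hga2]
    have h33 : β a₃ a₃ ≠ 0 := by
      have e' : β a₃ a₃ = β g g := by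
        simp [ha₃, h11, h22, h12, h21, T.sβ a₁ g, T.sβ a₂ g, hga1, hga2]
      rw [e']; exact hgg
    -- eigenvalues at non-orthogonal vectors agree
    have hsame : ∀ {c c'}, e c = c → β c c ≠ 0 → e c' = c' → β c' c' ≠ 0 → β c c' ≠ 0 →
        β (C c) c / β c c = β (C c') c' / β c' c' := by
      intro c c' hc hcc hc' hcc' hne
      have h1 := hCsym c c'
      rw [heig c hc hcc, heig c' hc' hcc', map_smul, LinearMap.smul_apply, map_smul, smul_eq_mul,
        smul_eq_mul] at h1
      exact mul_right_cancel₀ hne h1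
    set γ := β (C a₃) a₃ / β a₃ a₃
    have hC1 : C a₁ = γ • a₁ := by
      rw [heig a₁ he1 h11', ← hsame he3 h33 he1 h11' (by rw [h31]; exact T.h2)]
    have hC2 : C a₂ = γ • a₂ := by
      rw [heig a₂ he2 h22', ← hsame he3 h33 he2 h22' (by rw [h32]; exact neg_ne_zero.2 T.h2)]
    have hCn : C n = γ • n := by
      have h1 : a₁ + a₂ = (2 : F) • n := by rw [ha₁, ha₂]; module
      have h2 := congrArg C h1
      rw [map_add, hC1, hC2, ← smul_add, h1, map_smul, smul_comm] at h2
      exact (smul_right_injective W T.h2 h2).symm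
    obtain ⟨a, hea', haa⟩ := I.compl.exists_aniso T (Nat.pos_of_ne_zero fun h0 => by
      rw [Submodule.finrank_eq_zero, LinearMap.range_eq_bot] at h0
      have h1 := LinearMap.congr_fun h0 w₀
      rw [LinearMap.sub_apply, LinearMap.id_apply, he, LinearMap.smul_apply, hMw₀, smul_zero,
        sub_zero] at h1
      exact hw₀ h1)
    have hea : e a = 0 := by simpa [sub_eq_self] using hea'
    refine siegel_contra S hz D hYC hl0 (neg_ne_zero.2 one_ne_zero) I.compl (fun w => hMe w) haa hn
      hn0 hea' (by simp [hen]) (fun R R' hR hR' w => ?_) heR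
    have hQ : ∀ u, e u = u → e (R u) = u - (β a a / 2 * β u n) • n := fun u hu => by
      have hua : β u a = 0 := by rw [← hu, I.symm, hea, map_zero]
      rw [hR, hua]
      simp [hu, hea, hen]
    rw [hCadj, hMe, hMe, map_smul, map_smul]
    congr 1
    rw [← hCe (R (e (R' w))), hQ _ (hee _), hQ _ (heC _), map_sub, map_smul, hCn, hCe, hCsym, hCn,
      I.symm, hen, map_smul, smul_eq_mul, smul_smul]
    congr 2
    ring

end Cfsg.Lib.Linear.SpOTensor
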