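import Cfsg.Agent.Lib.Linear.SpOTensor.Shape

/-!
# The stabiliser of a line of the first factor consists of products
-/

set_option autoImplicit false
set_option linter.unusedSectionVars false

namespace Cfsg.Lib.Linear.SpOTensor

open Module
open Cfsg.Lib.Linear

variable {F V U W : Type*} [Field F] [AddCommGroup V] [Module F V] [FiniteDimensional F V]
  [AddCommGroup U] [Module F U] [FiniteDimensional F U]
  [AddCommGroup W] [Module F W] [FiniteDimensional F W]
  {B : LinearMap.BilinForm F V} {α : LinearMap.BilinForm F U} {β : LinearMap.BilinForm F W}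
  {τ : U →ₗ[F] W →ₗ[F] V} {T : Ten B α β τ} {L : Subgroup (V ≃ₗ[F] V)}

variable (S : Sit T L)
include S

/-- A long element conjugated along a line has a scalar coefficient. -/
theorem line_similitude {n : V ≃ₗ[F] V} (hn : n ∈ L) {x : U} (hx : x ≠ 0) {A : W ≃ₗ[F] W}
    (hA : ∀ w, n (τ x w) = τ x (A w)) :
    ∃ c : F, c ≠ 0 ∧ (∀ w, A (T.adj A.toLinearMap w) = c • w) ∧
      ∀ w, T.adj A.toLinearMap w = c • A.symm w := by
  obtain ⟨g, hg, hgv⟩ := S.ov.exists_left (LinearMap.id + (α.flip x).smulRight x) fun u v => by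
    simp [T.α_self, T.α_symm x v]
    ring
  have hgv' : ∀ v, g v = v + τ x (T.ctr x v) := fun v => by
    refine LinearMap.congr_fun (T.hom_ext (f := (g : V →ₗ[F] V))
      (g := LinearMap.id + τ x ∘ₗ T.ctr x) fun a w => ?_) v
    simp [hgv, T.ctr_tau]
  obtain ⟨c, hc⟩ := S.lose x (A.toLinearMap ∘ₗ T.adj A.toLinearMap) (n * g * n⁻¹) hx
    (mul_mem (mul_mem hn hg) (inv_mem hn)) fun v => by
      have h1 := T.ctr_act (S.ov.le hn) (A := A.toLinearMap) (fun w => hA w)
        ((n⁻¹ : V ≃ₗ[F] V) v)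
      rw [T.act_inv] at h1
      rw [LinearEquiv.mul_apply, LinearEquiv.mul_apply, hgv', map_add, T.act_inv, hA, ← h1]
      rfl
  have hAA : ∀ w, A (T.adj A.toLinearMap w) = c • w := fun w => LinearMap.congr_fun hc w
  refine ⟨c, fun hc0 => ?_, hAA, fun w => by rw [← map_smul, ← hAA, LinearEquiv.symm_apply_apply]⟩
  obtain ⟨a, ha⟩ := T.exists_aniso (by have := S.hk; omega)
  have h0 : T.adj A.toLinearMap a = 0 := A.injective (by rw [hAA, hc0, zero_smul, map_zero])
  refine ha ?_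
  conv_lhs => arg 2; rw [← A.apply_symm_apply a]
  exact (T.β_adj _ _ _).symm.trans (by rw [h0, map_zero, LinearMap.zero_apply])

/-- Entries at two vectors orthogonal to the line. -/
theorem mid_scalar {n : V ≃ₗ[F] V} (hn : n ∈ L) {x : U} (hx : x ≠ 0) {A : W ≃ₗ[F] W}
    (hA : ∀ w, n (τ x w) = τ x (A w)) {u a : U} (hu : α u x = 0) (ha : α a x = 0) :
    ∃ t : F, ∀ w, T.ctr a ((n⁻¹ : V ≃ₗ[F] V) (τ u w)) = t • A.symm w := by
  obtain ⟨c, hc0, -, hadj⟩ := line_similitude S hn hx hA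
  have hctr : ∀ v, T.ctr x ((n⁻¹ : V ≃ₗ[F] V) v) = T.adj A.toLinearMap (T.ctr x v) := fun v => by
    rw [← T.ctr_act (S.ov.le hn) (fun w => hA w) ((n⁻¹ : V ≃ₗ[F] V) v), T.act_inv]
  obtain ⟨p, hp, hpv, -⟩ := exists_shear S ha
  let C : U →ₗ[F] Module.End F W :=
    LinearMap.llcomp F W V W (A.toLinearMap ∘ₗ T.ctr a ∘ₗ (n⁻¹ : V ≃ₗ[F] V).toLinearMap) ∘ₗ τ
  have hxa : α x a = 0 := by rw [T.α_symm, ha, neg_zero]
  have hF : Fix T (n * p * n⁻¹) x C := by
    refine ⟨fun w => ?_, fun u w hu => ?_⟩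
    · have h1 : (n⁻¹ : V ≃ₗ[F] V) (τ x w) = τ x (A.symm w) := by
        conv_lhs => rw [← A.apply_symm_apply w, ← hA]
        exact T.inv_act _
      rw [LinearEquiv.mul_apply, LinearEquiv.mul_apply, h1, hpv, hxa, T.α_self, zero_smul,
        zero_smul, add_zero, add_zero, hA, A.apply_symm_apply]
    · rw [LinearEquiv.mul_apply, LinearEquiv.mul_apply]
      set y := (n⁻¹ : V ≃ₗ[F] V) (τ u w) with hy
      have hy0 : T.ctr x y = 0 := by rw [hy, hctr, T.ctr_tau, hu, zero_smul, map_zero]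
      have h2 : p y = y + τ x (T.ctr a y) := by
        have := T.eq_zero_of_perp hx (f := (p : V →ₗ[F] V) - LinearMap.id - τ x ∘ₗ T.ctr a)
          (fun v w hv => by
            simp only [LinearMap.sub_apply, LinearMap.comp_apply, LinearMap.id_apply,
              LinearEquiv.coe_coe, hpv, T.ctr_tau, hv, zero_smul, add_zero, map_add, map_smul,
              LinearMap.add_apply, LinearMap.smul_apply]
            abel) hy0
        simp only [LinearMap.sub_apply, LinearMap.comp_apply, LinearMap.id_apply,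
          LinearEquiv.coe_coe, sub_eq_zero] at this
        exact sub_eq_iff_eq_add'.1 this
      rw [h2, map_add, hA, hy, T.act_inv]
      rfl
  obtain ⟨t, ht⟩ := fix_scalar S hx (mul_mem (mul_mem hn hp) (inv_mem hn)) hF u hu
  refine ⟨t, fun w => A.injective ?_⟩
  rw [map_smul, A.apply_symm_apply]
  exact LinearMap.congr_fun ht w

/-- An element of the group stabilising a line of the first factor is a product. -/
theorem parabolic {n : V ≃ₗ[F] V} (hn : n ∈ L) {x : U} (hx : x ≠ 0) {A : W ≃ₗ[F] W}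
    (hA : ∀ w, n (τ x w) = τ x (A w)) :
    ∃ p : U →ₗ[F] U, ∀ a w, n (τ a w) = τ (p a) (A w) := by
  classical
  obtain ⟨z, hz⟩ := T.exists_one hx
  obtain ⟨c, hc0, hAA, hadj⟩ := line_similitude S hn hx hA
  have hAi : ∀ w, (n⁻¹ : V ≃ₗ[F] V) (τ x w) = τ x (A.symm w) := fun w => by
    conv_lhs => rw [← A.apply_symm_apply w, ← hA]
    exact T.inv_act _
  -- entries in the hyperplane
  have hmid : ∀ {u v : U}, α u x = 0 → α v x = 0 → ∃ t : F, ∀ w, T.ctr u (n (τ v w)) = t • A w := by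
    intro u v hu hv
    obtain ⟨t, ht⟩ := mid_scalar S (inv_mem hn) hx (A := A.symm) hAi hv hu
    refine ⟨t, fun w => ?_⟩
    have := ht w
    rwa [inv_inv, LinearEquiv.symm_symm] at this
  have hctrx : ∀ v, T.ctr x (n v) = c⁻¹ • A (T.ctr x v) := fun v => by
    rw [← T.ctr_act (S.ov.le hn) (fun w => hA w) v, hadj, map_smul, A.apply_symm_apply, smul_smul,
      inv_mul_cancel₀ hc0, one_smul]
  obtain ⟨w₁, hw₁⟩ : ∃ w : W, w ≠ 0 := by
    obtain ⟨a, ha⟩ := T.exists_aniso (by have := S.hk; omega)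
    exact ⟨a, fun e => ha (by simp [e])⟩
  obtain ⟨θ, hθ⟩ : ∃ θ : Module.Dual F W, θ w₁ = 1 := by
    obtain ⟨f, hf, -⟩ := Submodule.exists_dual_map_eq_bot_of_notMem
      (x := w₁) (p := (⊥ : Submodule F W)) (by simpa using hw₁) inferInstance
    exact ⟨(f w₁)⁻¹ • f, inv_mul_cancel₀ hf⟩
  -- the element commutes with reflections up to long displacements
  let e : U → W →ₗ[F] W := fun v => T.ctr z ∘ₗ (n : V →ₗ[F] V) ∘ₗ τ v
  have he : ∀ v w, e v w = T.ctr z (n (τ v w)) := fun v w => rfl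
  have refl_step : ∀ a : W, β a a ≠ 0 →
      (∀ v w, α v x = 0 → e v (refl β a w) = refl β (A a) (e v w)) ∧
      ((∀ u, α u x = 0 → ∃ t : F, ∀ w, T.ctr u (n (τ z w)) = t • A w) →
        ∀ w, e z (refl β a w) = refl β (A a) (e z w)) := by
    intro a ha
    have hAc : ∀ y y', β (A y) (A y') = c * β y y' := fun y y' => by
      have h1 : T.adj A.toLinearMap (A y) = c • y := by rw [hadj, A.symm_apply_apply]
      rw [← smul_eq_mul, ← LinearMap.smul_apply, ← map_smul, ← h1, T.β_adj]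
      rfl
    have haA : β (A a) (A a) ≠ 0 := by rw [hAc]; exact mul_ne_zero hc0 ha
    have hr : ∀ w, A (refl β a w) = refl β (A a) (A w) := fun w => by
      rw [refl_apply, refl_apply, map_sub, map_smul, hAc, hAc]
      congr 2
      field_simp
    obtain ⟨r, hrL, hrv⟩ := S.ov.exists_refl ha
    obtain ⟨r', hrL', hrv'⟩ := S.ov.exists_refl haA
    have hctr' : ∀ u v, T.ctr u (r' v) = refl β (A a) (T.ctr u v) := fun u v =>
      LinearMap.congr_fun (T.hom_ext (f := T.ctr u ∘ₗ (r' : V →ₗ[F] V))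
        (g := refl β (A a) ∘ₗ T.ctr u) fun b w => by simp [hrv', T.ctr_tau]) v
    let D : V →ₗ[F] V := (n : V →ₗ[F] V) ∘ₗ (r : V →ₗ[F] V) - (r' : V →ₗ[F] V) ∘ₗ (n : V →ₗ[F] V)
    have hD : ∀ v, D v = n (r v) - r' (n v) := fun v => rfl
    have hDline : ∀ w, D (τ x w) = 0 := fun w => by
      rw [hD, hrv, hA, hA, hrv', hr, sub_self]
    have hDv : ∀ v, (∀ u, α u x = 0 → ∃ t : F, ∀ w, T.ctr u (n (τ v w)) = t • A w) → ∀ w,
        D (τ v w) = -τ x (e v (refl β a w) - refl β (A a) (e v w)) := by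
      intro v hv w
      rw [T.mem_line hz (y := D (τ v w)) fun u hu => ?_, hD, map_sub, hrv, hctr', he, he]
      obtain ⟨t, ht⟩ := hv u hu
      rw [hD, map_sub, hrv, ht, hctr', ht, map_smul, hr, sub_self]
    set h := n * r * n⁻¹ * r' with hh
    have hhL : h ∈ L := mul_mem (mul_mem (mul_mem hn hrL) (inv_mem hn)) hrL'
    have rr : ∀ v, r' (r' v) = v := fun v => by
      have e' : (r' : V →ₗ[F] V) ∘ₗ (r' : V →ₗ[F] V) = LinearMap.id := T.hom_ext fun b w => by
        simp [hrv', T.refl_refl haA]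
      exact LinearMap.congr_fun e' v
    have hhd : ∀ v, h v - v = D ((n⁻¹ : V ≃ₗ[F] V) (r' v)) := fun v => by
      simp only [hh, LinearEquiv.mul_apply, hD, T.act_inv, rr]
    have hCx : ∀ y, T.ctr x y = 0 → D y = -τ x (T.ctr z (D y)) := fun y hy => by
      have := T.eq_zero_of_perp hx (f := D + τ x ∘ₗ T.ctr z ∘ₗ D) (fun v w hv => by
        rw [LinearMap.add_apply, LinearMap.comp_apply, LinearMap.comp_apply]
        nth_rewrite 1 [T.mem_line hz (y := D (τ v w)) fun u hu => ?_]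
        · exact neg_add_cancel _
        obtain ⟨t, ht⟩ := hmid hu hv
        rw [hD, map_sub, hrv, ht, hctr', ht, map_smul, hr, sub_self]) hy
      rw [LinearMap.add_apply, LinearMap.comp_apply, LinearMap.comp_apply] at this
      exact eq_neg_of_add_eq_zero_left this
    let C : U →ₗ[F] Module.End F W := -(LinearMap.llcomp F W V W
      (T.ctr z ∘ₗ D ∘ₗ (n⁻¹ : V ≃ₗ[F] V).toLinearMap ∘ₗ (r' : V →ₗ[F] V)) ∘ₗ τ)
    have hperp : ∀ u w, α u x = 0 → T.ctr x ((n⁻¹ : V ≃ₗ[F] V) (r' (τ u w))) = 0 := fun u w hu => by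
      have h1 := hctrx ((n⁻¹ : V ≃ₗ[F] V) (r' (τ u w)))
      rw [T.act_inv, hctr', T.ctr_tau, hu, zero_smul, map_zero] at h1
      exact A.map_eq_zero_iff.1 ((smul_eq_zero.1 h1.symm).resolve_left (inv_ne_zero hc0))
    have hF : Fix T h x C := by
      refine ⟨fun w => sub_eq_zero.1 ?_, fun u w hu => ?_⟩
      · rw [hhd, hrv', hAi, hDline]
      · rw [← sub_eq_iff_eq_add', hhd, hCx _ (hperp u w hu)]
        simp [C]
    have hC0 : ∀ u, α u x = 0 → C u = 0 := by
      intro u hu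
      obtain ⟨t, ht⟩ := fix_scalar S hx hhL hF u hu
      rw [ht, eq_zero_of_small S.hk ?_ ht, zero_smul]
      -- the element moves only two directions
      let l : Module.Dual F U :=
        θ ∘ₗ LinearMap.applyₗ ((n⁻¹ : V ≃ₗ[F] V) (τ u (A w₁))) ∘ₗ T.ctr
      set v := (α.toDual T.nα).symm l with hvdef
      have hlv : ∀ a', α v a' = θ (T.ctr a' ((n⁻¹ : V ≃ₗ[F] V) (τ u (A w₁)))) := fun a' => by
        rw [hvdef, LinearMap.BilinForm.apply_toDual_symm_apply]; rfl
      have hvx : α v x = 0 := by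
        have h1 := hctrx ((n⁻¹ : V ≃ₗ[F] V) (τ u (A w₁)))
        rw [T.act_inv, T.ctr_tau, hu, zero_smul] at h1
        rw [hlv, A.map_eq_zero_iff.1 ((smul_eq_zero.1 h1.symm).resolve_left (inv_ne_zero hc0)),
          map_zero]
      have hrep : ∀ w, D ((n⁻¹ : V ≃ₗ[F] V) (τ u w)) = D (τ v (A.symm w)) := by
        intro w
        refine sub_eq_zero.1 ?_
        rw [← map_sub]
        set y := (n⁻¹ : V ≃ₗ[F] V) (τ u w) - τ v (A.symm w) with hy
        rw [T.mem_line hz (y := y) fun a' ha' => ?_, map_neg, hDline, neg_zero]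
        obtain ⟨s, hs⟩ := mid_scalar S hn hx hA hu ha'
        rw [hy, map_sub, hs, T.ctr_tau, hlv, hs, map_smul, A.symm_apply_apply, hθ, smul_eq_mul,
          mul_one, sub_self]
      refine ⟨e v a, A a, fun w => ?_⟩
      show -T.ctr z (D ((n⁻¹ : V ≃ₗ[F] V) (r' (τ u w)))) ∈ _
      rw [hrv', hrep, hDv v (fun b hb => hmid hb hvx), map_neg, T.ctr_tau, T.α_symm, hz, neg_smul,
        neg_neg, one_smul, Submodule.mem_span_pair]
      generalize A.symm (refl β (A a) w) = w'
      refine ⟨2 / β a a * β w' a, -(2 / β (A a) (A a) * β (e v w') (A a)), ?_⟩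
      rw [refl_apply β a w', refl_apply β (A a) (e v w'), map_sub, map_smul]
      module
    have hDperp : ∀ y, T.ctr x y = 0 → D y = 0 := by
      intro y hy
      have h1 : T.ctr x (r' (n y)) = 0 := by rw [hctr', hctrx, hy, map_zero, smul_zero, map_zero]
      have h2 := T.eq_zero_of_perp hx (f := (h : V →ₗ[F] V) - LinearMap.id) (fun u w hu => by
        simp [hF.perp u w hu, hC0 u hu]) h1
      rwa [LinearMap.sub_apply, LinearMap.id_apply, LinearEquiv.coe_coe, hhd, rr, T.inv_act] at h2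
    refine ⟨fun v w hv => sub_eq_zero.1 ?_, fun hzu w => ?_⟩
    · have h1 := hDperp (τ v w) (by rw [T.ctr_tau, hv, zero_smul])
      rw [hDv v (fun b hb => hmid hb hv), neg_eq_zero] at h1
      exact T.tau_inj hx (h1.trans (map_zero _).symm)
    -- the remaining component
    have hp : ∀ u w, α u x = 0 → h (τ u w) = τ u w := fun u w hu => by
      rw [hF.perp u w hu, hC0 u hu, LinearMap.zero_apply, map_zero, add_zero]
    let φ : W →ₗ[F] W := -((e z ∘ₗ refl β a - refl β (A a) ∘ₗ e z) ∘ₗ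
      (c • (A.symm.toLinearMap ∘ₗ refl β (A a))))
    obtain ⟨t, ht⟩ := long_of_fix S hhL hz (φ := φ) hp fun w => by
      rw [hhd]
      set y := (n⁻¹ : V ≃ₗ[F] V) (r' (τ z w)) with hy
      have hyx : T.ctr x y = c • A.symm (refl β (A a) w) := by
        have h1 := hctrx y
        rw [hy, T.act_inv, hctr', T.ctr_tau, hz, one_smul] at h1
        rw [hy, h1, map_smul, A.symm_apply_apply, smul_smul, mul_inv_cancel₀ hc0, one_smul]
      rw [T.map_eq_of_perp hz (f := D) (fun u w hu => hDperp _ (by rw [T.ctr_tau, hu, zero_smul]))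
        y, hyx, hDv z hzu]
      simp [φ]
      module
    have hφ0 : φ = 0 := by
      rw [ht, eq_zero_of_small S.hk ⟨e z a, A a, fun w => ?_⟩ ht, zero_smul]
      simp only [φ, LinearMap.neg_apply, LinearMap.comp_apply, LinearMap.sub_apply,
        LinearMap.smul_apply, LinearEquiv.coe_coe]
      generalize c • A.symm (refl β (A a) w) = w'
      rw [Submodule.mem_span_pair]
      refine ⟨2 / β a a * β w' a, -(2 / β (A a) (A a) * β (e z w') (A a)), ?_⟩
      rw [refl_apply β a w', refl_apply β (A a) (e z w'), map_sub, map_smul]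
      module
    have h2 := LinearMap.congr_fun hφ0 (refl β (A a) (A (c⁻¹ • w)))
    simp only [φ, LinearMap.neg_apply, LinearMap.comp_apply, LinearMap.sub_apply,
      LinearMap.smul_apply, LinearEquiv.coe_coe, T.refl_refl haA, A.symm_apply_apply,
      LinearMap.zero_apply, neg_eq_zero, smul_smul, mul_inv_cancel₀ hc0, one_smul,
      sub_eq_zero] at h2
    exact h2
  have scalarA : ∀ f : W →ₗ[F] W,
      (∀ a, β a a ≠ 0 → ∀ w, f (refl β a w) = refl β (A a) (f w)) → ∃ t : F, ∀ w, f w = t • A w := by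
    intro f hf
    obtain ⟨t, ht⟩ := T.scalar_of_comm S.hk (φ := A.symm.toLinearMap ∘ₗ f) fun a ha w => by
      have hAc : ∀ y y', β (A y) (A y') = c * β y y' := fun y y' => by
        have h1 : T.adj A.toLinearMap (A y) = c • y := by rw [hadj, A.symm_apply_apply]
        rw [← smul_eq_mul, ← LinearMap.smul_apply, ← map_smul, ← h1, T.β_adj]
        rfl
      apply A.injective
      simp only [LinearMap.comp_apply, LinearEquiv.coe_coe, A.apply_symm_apply, hf a ha]
      conv_lhs => rw [← A.apply_symm_apply (f w)]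
      generalize A.symm (f w) = y
      rw [refl_apply, refl_apply, map_sub, map_smul, hAc, hAc]
      congr 2
      field_simp
    exact ⟨t, fun w => A.symm.injective (by rw [map_smul, A.symm_apply_apply]; exact LinearMap.congr_fun ht w)⟩
  have hzv : ∀ v, α v x = 0 → ∃ t : F, ∀ w, T.ctr z (n (τ v w)) = t • A w := fun v hv =>
    scalarA (e v) fun a ha w => (refl_step a ha).1 v w hv
  -- the transposed entries come from the inverse
  have huz : ∀ u, α u x = 0 → ∃ t : F, ∀ w, T.ctr u (n (τ z w)) = t • A w := by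
    intro u hu
    obtain ⟨t, ht⟩ : ∃ t : F, ∀ w, T.ctr z ((n⁻¹ : V ≃ₗ[F] V) (τ u w)) = t • A.symm w := by
      let f : W →ₗ[F] W := A.toLinearMap ∘ₗ T.ctr z ∘ₗ (n⁻¹ : V ≃ₗ[F] V).toLinearMap ∘ₗ τ u
      obtain ⟨v, hvx, hvr⟩ : ∃ v, α v x = 0 ∧ ∀ w, ∃ w' : W,
          (n⁻¹ : V ≃ₗ[F] V) (τ u w) = τ v (A.symm w) + τ x w' := by
        let l : Module.Dual F U :=
          θ ∘ₗ LinearMap.applyₗ ((n⁻¹ : V ≃ₗ[F] V) (τ u (A w₁))) ∘ₗ T.ctr
        set v := (α.toDual T.nα).symm l with hvdef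
        have hlv : ∀ a', α v a' = θ (T.ctr a' ((n⁻¹ : V ≃ₗ[F] V) (τ u (A w₁)))) := fun a' => by
          rw [hvdef, LinearMap.BilinForm.apply_toDual_symm_apply]; rfl
        refine ⟨v, ?_, fun w => ?_⟩
        · have h1 := hctrx ((n⁻¹ : V ≃ₗ[F] V) (τ u (A w₁)))
          rw [T.act_inv, T.ctr_tau, hu, zero_smul] at h1
          rw [hlv, A.map_eq_zero_iff.1 ((smul_eq_zero.1 h1.symm).resolve_left (inv_ne_zero hc0)),
            map_zero]
        set y := (n⁻¹ : V ≃ₗ[F] V) (τ u w) - τ v (A.symm w) with hy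
        refine ⟨-T.ctr z y, ?_⟩
        rw [map_neg, ← T.mem_line hz (y := y) fun a' ha' => ?_, hy, add_sub_cancel]
        obtain ⟨s, hs⟩ := mid_scalar S hn hx hA hu ha'
        rw [hy, map_sub, hs, T.ctr_tau, hlv, hs, map_smul, A.symm_apply_apply, hθ, smul_eq_mul,
          mul_one, sub_self]
      obtain ⟨t, ht⟩ := hzv v hvx
      choose w' hw' using hvr
      refine ⟨α v z - t + α u z, fun w => ?_⟩
      have h1 := congrArg (fun y => T.ctr z (n y)) (hw' w)
      simp only [T.act_inv, map_add, T.ctr_tau, ht, hA, A.apply_symm_apply, T.α_symm x z, hz] at h1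
      rw [hw' w, map_add, T.ctr_tau, T.ctr_tau, T.α_symm x z, hz]
      apply A.injective
      rw [map_add, map_smul, map_smul, map_smul, A.apply_symm_apply]
      linear_combination (norm := module) -h1
    refine ⟨-(t / c), fun w => T.β_ext fun v => ?_⟩
    have h1 := LinearMap.congr_fun (T.adj_ent (S.ov.le hn) u z) v
    rw [LinearMap.neg_apply, Ten.ent_apply, ht] at h1
    have h2 : β (T.adj (T.ent n u z) v) w = β v (T.ctr u (n (τ z w))) := T.β_adj _ _ _
    rw [h1] at h2
    have h3 : β (A.symm v) w = c⁻¹ * β v (A w) := by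
      have h4 : β (T.adj A.toLinearMap v) w = β v (A w) := T.β_adj _ _ _
      rw [hadj, map_smul, LinearMap.smul_apply, smul_eq_mul] at h4
      rw [← h4, ← mul_assoc, inv_mul_cancel₀ hc0, one_mul]
    rw [map_smul, LinearMap.smul_apply, smul_eq_mul, T.sβ, ← h2, map_neg, LinearMap.neg_apply,
      map_smul, LinearMap.smul_apply, smul_eq_mul, h3, T.sβ (A w)]
    ring
  obtain ⟨s₀, hs₀⟩ : ∃ t : F, ∀ w, T.ctr z (n (τ z w)) = t • A w :=
    scalarA (e z) fun a ha w => (refl_step a ha).2 huz w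
  -- all entries are multiples of the action on the line
  have hall : ∀ u v, ∃ t : F, ∀ w, T.ctr u (n (τ v w)) = t • A w := by
    intro u v
    have hu : α (u - α u x • z) x = 0 := by simp [hz]
    have hv : α (v - α v x • z) x = 0 := by simp [hz]
    obtain ⟨t1, h1⟩ := hmid hu hv
    obtain ⟨t2, h2⟩ := huz _ hu
    obtain ⟨t3, h3⟩ := hzv _ hv
    refine ⟨t1 + α v x * t2 + α u x * t3 + α u x * α v x * s₀, fun w => ?_⟩
    have e1 := h1 w
    have e2 := h2 w
    have e3 := h3 w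
    simp only [map_sub, map_smul, LinearMap.sub_apply, LinearMap.smul_apply, smul_sub, hs₀] at e1 e2 e3
    linear_combination (norm := module) e1 + α v x • e2 + α u x • e3
  let π : U →ₗ[F] Module.Dual F U := LinearMap.mk₂ F
    (fun v u => θ (A.symm (T.ctr u (n (τ v w₁)))))
    (fun v v' u => by simp) (fun s v u => by simp) (fun v u u' => by simp) (fun s v u => by simp)
  refine ⟨(α.toDual T.nα).symm.toLinearMap ∘ₗ π, fun v w => T.eq_of_ctr fun u => ?_⟩
  obtain ⟨t, ht⟩ := hall u v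
  rw [ht, T.ctr_tau, LinearMap.comp_apply, LinearEquiv.coe_coe,
    LinearMap.BilinForm.apply_toDual_symm_apply]
  simp [π, ht, hθ]

/-- An element fixing a line pointwise acts on the first factor alone. -/
theorem parabolic_one {n : V ≃ₗ[F] V} (hn : n ∈ L) {x : U} (hx : x ≠ 0)
    (h : ∀ w, n (τ x w) = τ x w) : ∃ p : U →ₗ[F] U, ∀ a w, n (τ a w) = τ (p a) w :=
  parabolic S hn hx (A := LinearEquiv.refl F W) h

end Cfsg.Lib.Linear.SpOTensor
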