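import Cfsg.Agent.Lib.Linear.SpOTensor.Spectral

/-!
# Without non-scalar long coefficients every element is a product
-/

set_option autoImplicit false
set_option linter.unusedSectionVars false

namespace Cfsg.Lib.Linear.SpOTensor

open Module
open Cfsg.Lib.Linear

variable {F V U W : Type*} [Field F] [AddCommGroup V] [Module F V] [FiniteDimensional F V]
  [AddCommGroup U] [Module F U] [FiniteDimensional F U]
  [AddCommGroup W] [Module F W] [FiniteDimensional F W]
  {B : LinearMap.BilinForm F V} {α : LinearMap.BilinForm F U} {β : LinearMap.BilinForm F W}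
  {τ : U →ₗ[F] W →ₗ[F] V} {T : Ten B α β τ} {L : Subgroup (V ≃ₗ[F] V)}

variable (S : Sit T L)
include S

theorem ent_mul_adj' [Fintype F] {g : V ≃ₗ[F] V} (hg : g ∈ L) (x y : U) :
    ∃ c : F, ∀ w, T.ent g x y (T.adj (T.ent g x y) w) = c • w := by
  by_cases hx : x = 0
  · exact ⟨0, fun w => by simp [Ten.ent_apply, hx]⟩
  · exact ent_mul_adj S hg hx

/-- A non-zero entry is a similitude. -/
theorem ent_similitude [Fintype F] {g : V ≃ₗ[F] V} (hg : g ∈ L) {x y : U} (hx : x ≠ 0)
    (hy : y ≠ 0) (hA : T.ent g x y ≠ 0) :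
    ∃ c : F, c ≠ 0 ∧ Function.Bijective (T.ent g x y) ∧
      (∀ w, T.ent g x y (T.adj (T.ent g x y) w) = c • w) := by
  obtain ⟨c, hc⟩ := ent_mul_adj S hg (x := x) (y := y) hx
  set A := T.ent g x y
  have hc0 : c ≠ 0 := by
    intro hc0
    obtain ⟨c', hc'⟩ := ent_mul_adj S (inv_mem hg) (x := y) (y := x) hy
    rw [show T.ent g⁻¹ y x = -T.adj A by rw [T.adj_ent (S.ov.le hg), neg_neg], T.adj_neg,
      T.adj_adj] at hc'
    simp only [LinearMap.neg_apply, map_neg, neg_neg] at hc'
    refine hA (null S hg hx hy (fun w => by rw [hc, hc0, zero_smul]) fun w => ?_)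
    have h1 : ∀ u, c' • T.adj A u = 0 := fun u => by
      rw [← hc', hc, hc0, zero_smul, map_zero]
    rw [hc']
    rcases eq_or_ne c' 0 with e | e
    · rw [e, zero_smul]
    · refine absurd (LinearMap.ext fun u => ?_) hA
      have h3 : T.adj A = 0 := LinearMap.ext fun u => (smul_eq_zero.1 (h1 u)).resolve_left e
      rw [← T.adj_adj A, h3, T.adj_eq (φ := (0 : W →ₗ[F] W)) (ψ := 0) (fun _ _ => by simp)]
  have hs : Function.Surjective A := fun w => ⟨T.adj A (c⁻¹ • w), by
    rw [hc, smul_smul, mul_inv_cancel₀ hc0, one_smul]⟩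
  exact ⟨c, hc0, ⟨LinearMap.injective_iff_surjective.2 hs, hs⟩, hc⟩

/-- Some line is orthogonal to the image of a line. -/
theorem exists_orth_line [Fintype F] {g : V ≃ₗ[F] V} (hg : g ∈ L) {y : U} (hy : y ≠ 0) :
    ∃ ν : U, ν ≠ 0 ∧ ∀ w, T.ctr ν (g (τ y w)) = 0 := by
  classical
  obtain ⟨x, hA⟩ : ∃ x, T.ent g x y ≠ 0 := by
    by_contra hc
    push Not at hc
    obtain ⟨a, ha⟩ := T.exists_aniso (by have := S.hk; omega)
    have h1 : g (τ y a) = 0 := T.eq_of_ctr fun u => by
      rw [map_zero, ← Ten.ent_apply, hc u, LinearMap.zero_apply]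
    rw [← map_zero g] at h1
    have h2 := T.tau_inj hy ((g.injective h1).trans (map_zero (τ y)).symm)
    exact ha (by simp [h2])
  have hx : x ≠ 0 := fun e => hA (LinearMap.ext fun w => by simp [Ten.ent_apply, e])
  obtain ⟨c, hc0, hbij, hcA⟩ := ent_similitude S hg hx hy hA
  set A := T.ent g x y with hAdef
  have hadd : ∀ u u', T.ent g (u + u') y = T.ent g u y + T.ent g u' y := fun u u' =>
    LinearMap.ext fun w => by simp [Ten.ent_apply]
  have hsmul : ∀ (t : F) u, T.ent g (t • u) y = t • T.ent g u y := fun t u =>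
    LinearMap.ext fun w => by simp [Ten.ent_apply]
  obtain ⟨a₀, ha₀⟩ := T.exists_aniso (by have := S.hk; omega)
  let ev : Module.End F W →ₗ[F] F := (β.flip a₀) ∘ₗ LinearMap.applyₗ a₀
  let pol : U →ₗ[F] Module.End F W :=
    { toFun := fun u => A * T.adj (T.ent g u y) + T.ent g u y * T.adj A
      map_add' := fun u u' => by rw [hadd, T.adj_add, mul_add, add_mul]; abel
      map_smul' := fun t u => by
        rw [hsmul, T.adj_smul, mul_smul_comm, smul_mul_assoc, RingHom.id_apply, smul_add] }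
  let γ : Module.Dual F U := (β a₀ a₀)⁻¹ • (ev ∘ₗ pol)
  have hpol : ∀ u, pol u = γ u • 1 := fun u => by
    obtain ⟨c₁, h1⟩ := ent_mul_adj' S hg (x + u) y
    obtain ⟨c₂, h2⟩ := ent_mul_adj' S hg u y
    have h : ∀ w, pol u w = (c₁ - c - c₂) • w := fun w => by
      have h3 := h1 w
      simp only [hadd, T.adj_add, LinearMap.add_apply, map_add, ← hAdef, hcA, h2] at h3
      show A (T.adj (T.ent g u y) w) + T.ent g u y (T.adj A w) = _
      rw [sub_smul, sub_smul, ← h3]
      abel
    refine LinearMap.ext fun w => ?_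
    rw [h, LinearMap.smul_apply, Module.End.one_apply]
    congr 1
    show _ = (β a₀ a₀)⁻¹ * β (pol u a₀) a₀
    rw [h, map_smul, LinearMap.smul_apply, smul_eq_mul]
    field_simp
  set ν := (α.toDual T.nα).symm γ with hν
  have hνu : ∀ u, α ν u = γ u := fun u => by
    rw [hν, LinearMap.BilinForm.apply_toDual_symm_apply]
  have hγx : γ x = 2 * c := by
    have h1 := LinearMap.congr_fun (hpol x) a₀
    rw [show pol x a₀ = A (T.adj A a₀) + A (T.adj A a₀) from rfl, hcA, LinearMap.smul_apply,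
      Module.End.one_apply, ← add_smul] at h1
    have h2 := congrArg (fun v => β v a₀) h1
    simp only [map_smul, LinearMap.smul_apply, smul_eq_mul] at h2
    rw [← mul_right_cancel₀ ha₀ h2]
    ring
  refine ⟨ν, fun e => ?_, fun w => ?_⟩
  · have h := hνu x
    rw [e, map_zero, LinearMap.zero_apply, hγx] at h
    exact mul_ne_zero T.h2 hc0 h.symm
  -- reflections
  suffices key : ∀ a, β a a ≠ 0 → T.ent g⁻¹ y ν a = 0 by
    have h0 : T.ent g⁻¹ y ν = 0 := T.eq_zero_of_aniso (by have := S.hk; omega) key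
    have h1 := T.adj_ent (S.ov.le (inv_mem hg)) y ν
    rw [h0, inv_inv] at h1
    have h2 : T.ent g ν y = 0 := by
      rw [← neg_eq_zero, ← h1]
      exact T.adj_eq fun _ _ => by simp
    exact LinearMap.congr_fun h2 w
  intro a ha
  set Y := T.cnj g y with hYdef
  obtain ⟨r, hrL, hrv⟩ := S.ov.exists_refl ha
  have hctr : ∀ u v, T.ctr u (r v) = refl β a (T.ctr u v) := fun u v =>
    LinearMap.congr_fun (T.hom_ext (f := T.ctr u ∘ₗ (r : V →ₗ[F] V))
      (g := refl β a ∘ₗ T.ctr u) fun b w => by simp [hrv, T.ctr_tau]) v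
  have hAi : ∀ w, T.ctr y ((g⁻¹ : V ≃ₗ[F] V) (τ x w)) = -T.adj A w := fun w => by
    rw [T.adj_ent (S.ov.le hg), LinearMap.neg_apply, neg_neg, Ten.ent_apply]
  have hcoef : ∀ w, T.ctr x (Y (τ x w)) = -(c • w) := fun w => by
    rw [hYdef, Ten.cnj_apply, hAi, map_neg, map_neg, map_neg, ← Ten.ent_apply, hcA]
  let Q : Module.End F W := T.ctr x ∘ₗ Y ∘ₗ (r : V →ₗ[F] V) ∘ₗ Y ∘ₗ τ x
  have hQ : ∀ w, Q w = T.ctr x (Y (r (Y (τ x w)))) := fun w => rfl
  have rr : ∀ v, r (r v) = v := fun v => by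
    have e' : (r : V →ₗ[F] V) ∘ₗ (r : V →ₗ[F] V) = LinearMap.id := T.hom_ext fun b w => by
      simp [hrv, T.refl_refl ha]
    exact LinearMap.congr_fun e' v
  have hYskew : ∀ u v, B (Y u) v = -B u (Y v) := by
    intro u v
    obtain ⟨k, hk, hkv⟩ := exists_cnj S hg y 1
    obtain ⟨k', hk', hkv'⟩ := exists_cnj S hg y (-1)
    have h1 := S.ov.le hk u v
    have h2 := S.ov.le hk' u v
    simp only [hkv, hkv', one_smul, neg_smul, map_add, map_neg, LinearMap.add_apply,
      LinearMap.neg_apply, ← hYdef] at h1 h2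
    have h3 : (2 : F) * (B (Y u) v + B u (Y v)) = 0 := by linear_combination h1 - h2
    linear_combination (mul_eq_zero.1 h3).resolve_left T.h2
  have hQskew : ∀ u v, β (Q u) v = -β u (Q v) := by
    intro u v
    rw [hQ, T.β_ctr, hYskew, T.sβ u, hQ, T.β_ctr, hYskew (r (Y (τ x v)))]
    have h1 := S.ov.le hrL (Y (τ x u)) (r (Y (τ x v)))
    rw [rr] at h1
    rw [h1, T.B_symm (r (Y (τ x v))), neg_neg]
  have hent : ∀ s : F, ∃ cs : F, ∀ w, ((-2 * c * s) • refl β a + (s * s) • Q)
      (T.adj ((-2 * c * s) • refl β a + (s * s) • Q) w) = cs • w := by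
    intro s
    obtain ⟨k, hk, hkv⟩ := exists_cnj S hg y s
    have he : T.ent (k * r * k) x x = (-2 * c * s) • refl β a + (s * s) • Q := LinearMap.ext fun w => by
      rw [Ten.ent_apply, LinearEquiv.mul_apply, LinearEquiv.mul_apply, hkv, hkv, ← hYdef]
      simp only [map_add, map_smul, hctr, hrv, T.ctr_tau, T.α_self, zero_smul, hcoef, ← hQ,
        LinearMap.add_apply, LinearMap.smul_apply, map_neg]
      module
    obtain ⟨cs, h⟩ := ent_mul_adj S (mul_mem (mul_mem hk hrL) hk) (x := x) (y := x) hx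
    rw [he] at h
    exact ⟨cs, h⟩
  obtain ⟨c₁, h1⟩ := hent 1
  obtain ⟨c₂, h2⟩ := hent (-1)
  have hadjQ : T.adj Q = -Q := T.adj_eq fun u v => by
    rw [LinearMap.neg_apply, map_neg, LinearMap.neg_apply, hQskew, neg_neg]
  have hcomm : ∀ w, Q (refl β a w) = refl β a (Q w) := by
    set R := refl β a
    have hσ : ∀ w, Q (R w) - R (Q w) = ((c₁ - c₂) / (-4 * c)) • w := fun w => by
      have e1 := h1 w
      have e2 := h2 w
      simp only [T.adj_add, T.adj_smul, show T.adj R = R from T.adj_refl ha, hadjQ, LinearMap.add_apply,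
        LinearMap.smul_apply, LinearMap.neg_apply, map_add, map_smul, map_neg,
        show R (R w) = w from T.refl_refl ha w] at e1 e2
      have h44 : (-4 * c) ≠ 0 := mul_ne_zero (neg_ne_zero.2 (by
        rw [show (4 : F) = 2 * 2 by norm_num]; exact mul_ne_zero T.h2 T.h2)) hc0
      refine smul_right_injective W h44 ?_
      show (-4 * c) • _ = (-4 * c) • _
      rw [smul_smul, mul_div_cancel₀ _ h44]
      linear_combination (norm := module) e1 - e2
    have hsm : Two (Q ∘ₗ R - R ∘ₗ Q) := ⟨Q a, a, fun w => Submodule.mem_span_pair.2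
      ⟨-(2 / β a a * β w a), 2 / β a a * β (Q w) a, by
        simp only [LinearMap.sub_apply, LinearMap.comp_apply, R, refl_apply, map_sub, map_smul]
        module⟩⟩
    have h0 := eq_zero_of_small S.hk hsm (t := (c₁ - c₂) / (-4 * c)) (LinearMap.ext fun w => hσ w)
    intro w
    rw [← sub_eq_zero, hσ, h0, zero_smul]
  have hQa : Q a = 0 := by
    have h := hcomm a
    have hqa : β (Q a) a = 0 := by
      have h' := hQskew a a
      rw [T.sβ a] at h'
      exact (mul_eq_zero.1 (show (2 : F) * β (Q a) a = 0 by linear_combination h')).resolve_left T.h2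
    rw [T.refl_self ha, map_neg, refl_apply, hqa, mul_zero, zero_smul, sub_zero] at h
    have h' : (2 : F) • Q a = 0 := by rw [two_smul]; linear_combination (norm := module) -h
    exact (smul_eq_zero.1 h').resolve_left T.h2
  -- unfold the middle entry
  set v := g (τ y (T.adj A a)) with hv
  have hYa : Y (τ x a) = -v := by rw [hYdef, Ten.cnj_apply, hAi, map_neg, map_neg, hv]
  have h5 : T.ctr y ((g⁻¹ : V ≃ₗ[F] V) (r v)) = 0 := by
    rw [hQ, hYa, map_neg, map_neg, map_neg, neg_eq_zero, hYdef, Ten.cnj_apply, ← Ten.ent_apply,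
      ← hAdef] at hQa
    exact hbij.1 (hQa.trans (map_zero _).symm)
  have hr : r v = v - τ ν a := T.eq_of_ctr fun u => by
    rw [hctr, map_sub, T.ctr_tau, hνu, refl_apply]
    congr 2
    have h6 := congrArg (fun v => β v a) (LinearMap.congr_fun (hpol u) a)
    rw [show pol u a = A (T.adj (T.ent g u y) a) + T.ent g u y (T.adj A a) from rfl] at h6
    simp only [map_add, LinearMap.add_apply, LinearMap.smul_apply, Module.End.one_apply, map_smul,
      smul_eq_mul] at h6
    have h7 : β (A (T.adj (T.ent g u y) a)) a = β (T.ent g u y (T.adj A a)) a := by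
      rw [T.sβ (A _), ← T.β_adj A, T.β_adj' (T.ent g u y), T.sβ]
    rw [h7] at h6
    rw [hv, ← Ten.ent_apply, div_mul_eq_mul_div, div_eq_iff ha, two_mul, h6]
  rw [hr, map_sub, T.inv_act, map_sub, T.ctr_tau, T.α_self, zero_smul, zero_sub, neg_eq_zero] at h5
  exact h5

/-- Every element acts factorwise. -/
theorem pure_of_losing [Fintype F] {g : V ≃ₗ[F] V} (hg : g ∈ L) :
    ∃ (p : U →ₗ[F] U) (q : W ≃ₗ[F] W), ∀ a w, g (τ a w) = τ (p a) (q w) := by
  classical
  by_cases hU : ∀ u : U, u = 0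
  · refine ⟨LinearMap.id, LinearEquiv.refl F W, fun a w => ?_⟩
    rw [hU a, LinearMap.id_apply, map_zero, LinearMap.zero_apply, map_zero, LinearMap.zero_apply]
  push Not at hU
  obtain ⟨y, hy⟩ := hU
  obtain ⟨e, he, hge⟩ := exists_orth_line S hg hy
  obtain ⟨k, hk, hkv⟩ := exists_long S e 1
  simp only [one_smul] at hkv
  set n := g⁻¹ * k * g with hn
  obtain ⟨p, hp⟩ := parabolic_one S (n := n) (mul_mem (mul_mem (inv_mem hg) hk) hg) hy fun w => by
    rw [hn, LinearEquiv.mul_apply, LinearEquiv.mul_apply, hkv, Ten.lng_apply, hge, map_zero,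
      add_zero, T.inv_act]
  obtain ⟨b, hb⟩ : ∃ b, p b ≠ b := by
    by_contra hc
    push Not at hc
    obtain ⟨f, hf⟩ := T.exists_one he
    obtain ⟨a, ha⟩ := T.exists_aniso (by have := S.hk; omega)
    have h1 : (n : V →ₗ[F] V) = LinearMap.id := T.hom_ext fun u w => by
      simp [hp, hc]
    have h2 := congrArg g (LinearMap.congr_fun h1 ((g⁻¹ : V ≃ₗ[F] V) (τ f a)))
    rw [LinearMap.id_apply, LinearEquiv.coe_coe, hn, LinearEquiv.mul_apply, LinearEquiv.mul_apply,
      T.act_inv, T.act_inv, hkv, Ten.lng_apply, T.ctr_tau, hf, one_smul, add_eq_left] at h2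
    have h3 := T.tau_inj he (h2.trans (map_zero _).symm)
    exact ha (by simp [h3])
  set d := p b - b
  have hd : d ≠ 0 := sub_ne_zero.2 hb
  let A : W →ₗ[F] W := T.ctr e ∘ₗ (g : V →ₗ[F] V) ∘ₗ τ b
  have hgd : ∀ w, g (τ d w) = τ e (A w) := fun w => by
    have h1 := congrArg g (hp b w)
    rw [hn, LinearEquiv.mul_apply, LinearEquiv.mul_apply, T.act_inv, hkv, Ten.lng_apply] at h1
    rw [map_sub, LinearMap.sub_apply, map_sub, ← h1, add_sub_cancel_left]
    rfl
  have hAinj : Function.Injective A := fun w w' h =>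
    T.tau_inj hd (g.injective (by rw [hgd, hgd, h]))
  let q := LinearEquiv.ofInjectiveEndo A hAinj
  obtain ⟨s, hs, hse⟩ := Symp.exists_iso_vec T.nα T.aα he hd
  have hsi : s ∈ Symp.iso α := Symp.T_le_iso T.aα ⊥ hs
  obtain ⟨P, hP, hPv⟩ := S.ov.exists_left s.toLinearMap fun u v => hsi u v
  obtain ⟨p', hp'⟩ := parabolic S (n := P * g) (mul_mem hP hg) hd (A := q) fun w => by
    rw [LinearEquiv.mul_apply, hgd, hPv, LinearEquiv.coe_coe, hse]
    rfl
  refine ⟨s.symm.toLinearMap ∘ₗ p', q, fun a w => P.injective ?_⟩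
  rw [hPv, ← LinearEquiv.mul_apply, hp']
  simp

end Cfsg.Lib.Linear.SpOTensor
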