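import Cfsg.Agent.Lib.Linear.SpOTensor.One

/-!
# A coefficient with square minus one in characteristic three
-/

set_option autoImplicit false
set_option linter.unusedSectionVars false

namespace Cfsg.Lib.Linear.SpOTensor

open Module
open Cfsg.Lib.Linear

variable {F V U W : Type*} [Field F] [AddCommGroup V] [Module F V] [FiniteDimensional F V]
  [AddCommGroup U] [Module F U] [FiniteDimensional F U]
  [AddCommGroup W] [Module F W] [FiniteDimensional F W]
  {B : LinearMap.BilinForm F V} {α : LinearMap.BilinForm F U} {β : LinearMap.BilinForm F W}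
  {τ : U →ₗ[F] W →ₗ[F] V} {T : Ten B α β τ} {L : Subgroup (V ≃ₗ[F] V)}

variable (S : Sit T L)
include S

/-- A coefficient with square minus one is impossible. -/
theorem no_root (h3 : (3 : F) = 0) {x : U} (hx : x ≠ 0)
    {Y : V →ₗ[F] V} {M : Module.End F W} (D : Dat T L x Y M)
    (low : Low T L x (finrank F W))
    (hM : ∀ w, M (M w) = -w) (hns : ∀ t : F, M ≠ t • 1) : False := by
  classical
  obtain ⟨z, hz⟩ := T.exists_one hx
  have z3 : ∀ v : V, (3 : F) • v = 0 := fun v => by rw [h3, zero_smul]
  obtain ⟨b, hb, hbv⟩ := D.mem 1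
  obtain ⟨a, ha, hav⟩ := exists_long S x 1
  simp only [one_smul] at hbv hav
  set G := a * b with hG
  have hGL : G ∈ L := mul_mem ha hb
  have hstep : ∀ p q, G (τ x p + Y (τ x q)) = τ x (p + M p + M q) + Y (τ x (p + q)) := fun p q => by
    simp only [hG, LinearEquiv.mul_apply, hbv, hav, Ten.lng_apply, map_add, T.ctr_tau, T.α_self,
      zero_smul, D.coef, D.sq, map_zero, add_zero, zero_add]
    abel
  have stepTo : ∀ p q p' q', τ x (p + M p + M q) + Y (τ x (p + q)) = τ x p' + Y (τ x q') →
      G (τ x p + Y (τ x q)) = τ x p' + Y (τ x q') := fun p q p' q' h => (hstep p q).trans h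
  set k := G * G * G * G * G with hk
  have hkL : k ∈ L := mul_mem (mul_mem (mul_mem (mul_mem hGL hGL) hGL) hGL) hGL
  have hkx : ∀ w, k (τ x w) = -τ x w := fun w => by
    have s1 := stepTo w 0 (w + M w) w (by simp)
    have s2 := stepTo (w + M w) w 0 (M w - w) (by
      simp only [map_add, map_sub, hM, map_zero, zero_add, map_neg]
      linear_combination (norm := module) z3 (τ x (M w) + Y (τ x w)))
    have s3 := stepTo 0 (M w - w) (-w - M w) (M w - w) (by
      simp only [map_add, map_sub, hM, map_zero, zero_add, map_neg])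
    have s4 := stepTo (-w - M w) (M w - w) (-w) w (by
      simp only [map_add, map_sub, hM, map_neg]
      linear_combination (norm := module) -(z3 (τ x (M w))) - z3 (Y (τ x w)))
    have s5 := stepTo (-w) w (-w) 0 (by simp)
    simp only [hk, LinearEquiv.mul_apply]
    rw [show τ x w = τ x w + Y (τ x 0) by simp, s1, s2, s3, s4, s5]
    simp
  have hkY : ∀ w, k (Y (τ x w)) = -Y (τ x w) := fun w => by
    have s1 := stepTo 0 w (M w) w (by simp)
    have s2 := stepTo (M w) w (-(M w) - w) (M w + w) (by
      simp only [map_add, map_sub, hM, map_neg]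
      linear_combination (norm := module) z3 (τ x (M w)))
    have s3 := stepTo (-(M w) - w) (M w + w) (-(M w) - w) 0 (by
      simp only [map_add, map_sub, hM, map_neg, map_zero]
      module)
    have s4 := stepTo (-(M w) - w) 0 (M w) (-(M w) - w) (by
      simp only [map_add, map_sub, hM, map_neg, map_zero]
      linear_combination (norm := module) -(z3 (τ x (M w))))
    have s5 := stepTo (M w) (-(M w) - w) 0 (-w) (by
      simp only [map_add, map_sub, hM, map_neg, map_zero]
      module)
    simp only [hk, LinearEquiv.mul_apply]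
    rw [show Y (τ x w) = τ x 0 + Y (τ x w) by simp, s1, s2, s3, s4, s5]
    simp
  let d : V →ₗ[F] V := -(τ x ∘ₗ M ∘ₗ T.ctr x ∘ₗ Y) - Y ∘ₗ τ x ∘ₗ M ∘ₗ T.ctr x
  have hd : ∀ v, d v = -τ x (M (T.ctr x (Y v))) - Y (τ x (M (T.ctr x v))) := fun v => rfl
  have hk3 : ∀ v, k (k (k v)) = v + d v := by
    intro v
    have hkd : k (d v) = -d v := by
      rw [hd, map_sub, map_neg, hkx, hkY]; abel
    set v' := v - d v with hv'
    have hc' : T.ctr x v' = 0 := by
      rw [hv', hd, map_sub, map_sub, map_neg, T.ctr_tau, T.α_self, zero_smul, neg_zero, zero_sub,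
        D.coef, hM]
      simp
    have hY' : T.ctr x (Y v') = 0 := by
      rw [hv', hd]
      simp only [map_sub, map_neg, D.sq, sub_zero, D.coef, hM]
      simp
    have hG1 : G v' = v' + Y v' := by
      simp only [hG, LinearEquiv.mul_apply, hbv, hav, Ten.lng_apply, map_add, hc', hY', map_zero,
        add_zero]
    have hG2 : G (Y v') = Y v' := by
      simp only [hG, LinearEquiv.mul_apply, hbv, hav, Ten.lng_apply, D.sq, hY', map_zero, add_zero]
    have hkv : k v' = v' + (5 : F) • Y v' := by
      simp only [hk, LinearEquiv.mul_apply, hG1, hG2, map_add]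
      module
    have hkY' : k (Y v') = Y v' := by simp only [hk, LinearEquiv.mul_apply, hG2]
    have hv3 : k (k (k v')) = v' := by
      simp only [hkv, map_add, map_smul, hkY']
      linear_combination (norm := module) z3 ((5 : F) • Y v')
    conv_lhs => rw [show v = v' + d v by rw [hv']; abel]
    simp only [map_add, map_neg, hkd, hv3, neg_neg]
    rw [hv']
    linear_combination (norm := module) -(z3 (d v))
  obtain ⟨p, hp⟩ := parabolic S hkL hx (A := LinearEquiv.neg F) fun w => by
    rw [hkx, LinearEquiv.neg_apply, map_neg]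
  set π := p ∘ₗ p ∘ₗ p with hπ
  have hdv : ∀ u w, d (τ u w) = -τ (π u + u) w := fun u w => by
    have h1 := hk3 (τ u w)
    rw [hp, hp, hp] at h1
    simp only [LinearEquiv.neg_apply, neg_neg, map_neg] at h1
    rw [map_add, LinearMap.add_apply, show π u = p (p (p u)) from rfl, neg_add, h1]
    abel
  obtain ⟨w₀, hw₀⟩ := T.exists_aniso (by have := S.hk; omega)
  have hpiso : ∀ u v, α (p u) (p v) = α u v := fun u v => by
    have h1 := S.ov.le hkL (τ u w₀) (τ v w₀)
    rw [hp, hp, T.pair, T.pair, LinearEquiv.neg_apply] at h1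
    simp only [map_neg, LinearMap.neg_apply, neg_neg] at h1
    exact mul_right_cancel₀ hw₀ h1
  have hpx : p x = x := by
    have h1 := hkx w₀
    rw [hp, LinearEquiv.neg_apply, map_neg, neg_inj, ← sub_eq_zero, ← LinearMap.sub_apply,
      ← map_sub] at h1
    by_contra hne
    exact (fun e => hw₀ (by simp [e]) : w₀ ≠ 0) (T.tau_inj (sub_ne_zero.2 hne) (h1.trans (map_zero _).symm))
  set z₁ := -(π z + z) with hz₁
  have hz1 : α z₁ x = 1 := by
    have h1 : α (π z) x = 1 := by
      rw [← hpx, show π z = p (p (p z)) from rfl, hpiso]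
      nth_rewrite 1 [← hpx]
      rw [hpiso]
      nth_rewrite 1 [← hpx]
      rw [hpiso, hz]
    rw [hz₁, map_neg, map_add, LinearMap.neg_apply, LinearMap.add_apply, h1, hz]
    linear_combination -h3
  let C₀ : W →ₗ[F] W := M ∘ₗ T.ctr x ∘ₗ Y ∘ₗ τ z ∘ₗ M
  have hY₀ : ∀ w, Y (τ x w) = τ z₁ (M w) + τ x (C₀ w) := fun w => by
    have h1 := hdv z (M w)
    rw [hd, T.ctr_tau, hz, one_smul, hM, map_neg, map_neg, sub_neg_eq_add] at h1
    rw [show C₀ w = M (T.ctr x (Y (τ z (M w)))) from rfl, hz₁, map_neg, LinearMap.neg_apply, ← h1]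
    abel
  -- the second component
  have hCsym : ∀ w, T.adj C₀ (M w) = M (C₀ w) := by
    intro w
    refine T.β_ext fun c => ?_
    have h1 := D.isoY S (τ x w) (τ x c)
    rw [hY₀, hY₀] at h1
    simp only [map_add, LinearMap.add_apply, T.pair, T.α_self, hz1, T.α_symm x z₁] at h1
    rw [T.β_adj, T.sβ (M (C₀ w)), ← T.β_adj M c, D.adj_coef S, T.sβ (M c)]
    linear_combination h1
  have hψ : T.adj (M - M * T.adj C₀) = M - M * T.adj C₀ := by
    rw [T.adj_sub, T.adj_mul, T.adj_adj, D.adj_coef S]
    congr 1
    refine LinearMap.ext fun w => ?_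
    rw [Module.End.mul_apply, Module.End.mul_apply]
    have h1 : M (T.adj C₀ (M (M w))) = M (M (C₀ (M w))) := congrArg M (hCsym (M w))
    rw [hM, hM, map_neg, map_neg, neg_inj] at h1
    exact h1.symm
  set ψ : Module.End F W := M - M * T.adj C₀ with hψdef
  have heig : ∀ c, β c c ≠ 0 → ∀ w, ψ (refl β c w) = refl β c (ψ w) := by
    intro c hc
    obtain ⟨h, hh, hent⟩ := entry_conj S hz1 D hY₀ (R := refl β c) (R' := refl β c)
      (T.refl_iso hc) (T.refl_refl hc)
    set κ := 2 / β c c
    have hA : ∀ w, T.ent h x x (refl β c w) =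
        (κ * (β w (T.adj C₀ c) - β w c)) • M c + (κ * β (M w) c) • (c - T.adj C₀ c) := by
      intro w
      rw [hent, T.refl_refl hc, refl_apply β c w, refl_apply β c (M w), refl_apply β c (C₀ w)]
      simp only [map_sub, map_smul, T.β_adj', ← hCsym w]
      match_scalars <;> ring
    have h0 : T.ent h x x = 0 := low h hh <| lt_of_le_of_lt (Two.finrank_le ⟨M c, c - T.adj C₀ c,
      fun w => by
        rw [← T.refl_refl hc w, hA]
        exact Submodule.mem_span_pair.2 ⟨_, _, rfl⟩⟩) (by have := S.hk; omega)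
    have hMc : M c ≠ 0 := fun e => by
      have := hM c
      rw [e, map_zero, eq_comm, neg_eq_zero] at this
      exact hc (by simp [this])
    obtain ⟨u, hu⟩ := Symp.exists_apply_ne_zero T.nβ hMc
    have h1 := hA u
    rw [h0, LinearMap.zero_apply] at h1
    have hMu : β (M u) c = β u (M c) := by rw [← T.β_adj, D.adj_coef S]
    rw [hMu] at h1
    set ρ := (β u c - β u (T.adj C₀ c)) / β u (M c)
    have h2 : c - T.adj C₀ c = ρ • M c := by
      have hκ : κ ≠ 0 := div_ne_zero T.h2 hc
      refine smul_right_injective W (mul_ne_zero hκ hu) ?_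
      simp only [ρ]
      linear_combination (norm := skip) -h1
      match_scalars <;> field_simp <;> ring
    have h4 : ψ c = -ρ • c := by
      have h5 := congrArg M h2
      rw [map_sub, map_smul, hM] at h5
      rw [hψdef, LinearMap.sub_apply, Module.End.mul_apply, h5]
      module
    intro w
    have h6 : β (ψ w) c = -ρ * β w c := by rw [← hψ, T.β_adj, h4, map_smul, smul_eq_mul]
    rw [refl_apply β c w, map_sub, map_smul, h4, refl_apply, h6]
    module
  obtain ⟨t, ht⟩ := T.scalar_of_comm S.hk heig
  have hC : ∀ w, C₀ w = w + t • M w := by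
    have h1 : T.adj C₀ = 1 + t • M := LinearMap.ext fun w => by
      have h2 := congrArg M (LinearMap.congr_fun ht w)
      simp only [hψdef, LinearMap.sub_apply, Module.End.mul_apply, map_sub, hM,
        LinearMap.smul_apply, Module.End.one_apply, map_smul] at h2
      simp only [LinearMap.add_apply, Module.End.one_apply, LinearMap.smul_apply]
      linear_combination (norm := module) h2
    intro w
    rw [← T.adj_adj C₀, h1, T.adj_add, T.adj_one, T.adj_smul, D.adj_coef S]
    rfl
  set z₂ := z₁ + t • x with hz₂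
  have hz2 : α z₂ x = 1 := by simp [hz₂, hz1, T.α_self]
  have hYx : ∀ w, Y (τ x w) = τ z₂ (M w) + τ x w := fun w => by
    rw [hY₀, hC, hz₂]
    simp only [map_add, map_smul, LinearMap.add_apply, LinearMap.smul_apply]
    abel
  have hYz : ∀ v, Y (τ z₂ v) = -τ z₂ v + τ x (M v) := fun v => by
    have h1 := D.sq (τ x (-M v))
    rw [hYx, map_neg M, hM, neg_neg, map_add, map_neg, map_neg, hYx, hM] at h1
    simp only [map_neg] at h1
    linear_combination (norm := module) h1
  -- comparison with a reflected coefficient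
  have hcomm : ∀ c, β c c ≠ 0 → ∀ w, M (refl β c w) = refl β c (M w) := by
    intro c hc
    obtain ⟨r, hr, hrv⟩ := S.ov.exists_refl hc
    set r' := refl β c with hr'
    have rr : ∀ w, r' (r' w) = w := T.refl_refl hc
    have hbi : ∀ v, (b⁻¹ : V ≃ₗ[F] V) v = v - Y v := fun v => by
      have : b (v - Y v) = v := by rw [hbv, map_sub, D.sq, sub_zero, sub_add_cancel]
      conv_lhs => rw [← this]
      exact T.inv_act _
    set M' : Module.End F W := r' * M * r' with hM'
    have hM'' : ∀ w, M' w = r' (M (r' w)) := fun w => rfl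
    set h := b * r * b⁻¹ * r⁻¹ with hh
    have hhL : h ∈ L := mul_mem (mul_mem (mul_mem hb hr) (inv_mem hb)) (inv_mem hr)
    have hri : ∀ u w, (r⁻¹ : V ≃ₗ[F] V) (τ u w) = τ u (r' w) := fun u w => by
      have : r (τ u (r' w)) = τ u w := by rw [hrv, rr]
      conv_lhs => rw [← this]
      exact T.inv_act _
    have hhx : ∀ w, h (τ x w) = τ x (-(M (M' w))) := fun w => by
      simp only [hh, LinearEquiv.mul_apply, hri, hbi, hbv, hYx, hYz, map_add, map_sub, map_neg,
        hrv, rr, ← hM'', D.sq]
      module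
    have hhz : ∀ v, h (τ z₂ v) = τ z₂ (-(M (M' v))) + τ x ((2 : F) • (M v - M' v)) := fun v => by
      simp only [hh, LinearEquiv.mul_apply, hri, hbi, hbv, hYx, hYz, map_add, map_sub, map_neg,
        map_smul, hrv, rr, ← hM'']
      module
    have hM'M : ∀ w, M' (M' w) = -w := fun w => by rw [hM'', hM'', rr, hM, map_neg, rr]
    let Ah : W ≃ₗ[F] W := LinearEquiv.ofBijective (-(M * M')) (by
      refine Function.bijective_iff_has_inverse.2 ⟨fun w => -M' (M w), fun w => ?_, fun w => ?_⟩
      · simp [Module.End.mul_apply, hM, hM'M]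
      · simp [Module.End.mul_apply, hM, hM'M])
    obtain ⟨p', hp'⟩ := parabolic S hhL hx (A := Ah) fun w => hhx w
    set κ := α (p' z₂) z₂
    have key : ∀ v, (2 : F) • (M v - M' v) = κ • M (M' v) := fun v => by
      have h1 := congrArg (T.ctr z₂) ((hhz v).symm.trans (hp' z₂ v))
      rw [map_add, T.ctr_tau, T.ctr_tau, T.α_self, zero_smul, zero_add, T.α_symm x, hz2,
        neg_one_smul, T.ctr_tau, show Ah v = -(M (M' v)) from rfl, smul_neg, neg_inj] at h1
      exact h1
    set s := κ * (2 : F)⁻¹
    have hMs : ∀ w, M w = M' w + s • w := fun w => by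
      have h1 := key (M' w)
      rw [hM'M, sub_neg_eq_add, map_neg, smul_neg] at h1
      have h2 := congrArg M h1
      simp only [map_smul, map_add, map_neg, hM, smul_neg, neg_neg, smul_add] at h2
      have h4 := congrArg (fun u => (2 : F)⁻¹ • u) h2
      simp only [smul_add, smul_neg, smul_smul, inv_mul_cancel₀ T.h2, one_smul] at h4
      rw [show s = (2 : F)⁻¹ * κ from mul_comm _ _]
      linear_combination (norm := module) h4
    intro w
    by_cases hs : s = 0
    · have h1 := hMs (r' w)
      rw [hs, zero_smul, add_zero, hM'', rr] at h1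
      exact h1
    refine absurd ?_ (hns (-(s * (2 : F)⁻¹) + s))
    refine LinearMap.ext fun v => ?_
    have h1 := hM v
    rw [hMs (M v), hMs v, map_add, map_smul, hM'M] at h1
    have h5 : ((2 : F) * s) • M' v = -((s * s) • v) := by linear_combination (norm := module) h1
    have h6 := congrArg (fun u => ((2 : F) * s)⁻¹ • u) h5
    simp only [smul_smul, smul_neg, inv_mul_cancel₀ (mul_ne_zero T.h2 hs), one_smul] at h6
    rw [hMs, h6, LinearMap.smul_apply, Module.End.one_apply]
    match_scalars
    field_simp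
  obtain ⟨t', ht'⟩ := T.scalar_of_comm S.hk hcomm
  exact hns t' ht'

end Cfsg.Lib.Linear.SpOTensor
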