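import Cfsg.Agent.Lib.Linear.SpOTensor.Ten

/-!
# Overgroups without non-scalar long coefficients

The elements fixing a line of the first factor pointwise and their coefficients.
-/

set_option autoImplicit false
set_option linter.unusedSectionVars false

namespace Cfsg.Lib.Linear.SpOTensor

open Module
open Cfsg.Lib.Linear

variable {F V U W : Type*} [Field F] [AddCommGroup V] [Module F V] [FiniteDimensional F V]
  [AddCommGroup U] [Module F U] [FiniteDimensional F U]
  [AddCommGroup W] [Module F W] [FiniteDimensional F W]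
  {B : LinearMap.BilinForm F V} {α : LinearMap.BilinForm F U} {β : LinearMap.BilinForm F W}
  {τ : U →ₗ[F] W →ₗ[F] V} {T : Ten B α β τ} {L : Subgroup (V ≃ₗ[F] V)}

/-- A group of isometries containing all isometric products. -/
structure Over (T : Ten B α β τ) (L : Subgroup (V ≃ₗ[F] V)) : Prop where
  le : L ≤ Symp.iso B
  pure : ∀ (p : U →ₗ[F] U) (q : W →ₗ[F] W) (c : F), c ≠ 0 →
    (∀ a b, α (p a) (p b) = c * α a b) → (∀ x y, β (q x) (q y) = c⁻¹ * β x y) →
    ∃ g ∈ L, ∀ a w, g (τ a w) = τ (p a) (q w)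

/-- Long coefficients are scalar. -/
def Losing (T : Ten B α β τ) (L : Subgroup (V ≃ₗ[F] V)) : Prop :=
  ∀ (x : U) (φ : W →ₗ[F] W) (g : V ≃ₗ[F] V), x ≠ 0 → g ∈ L →
    (∀ v, g v = v + τ x (φ (T.ctr x v))) → ∃ t : F, φ = t • 1

/-- The standing situation. -/
structure Sit (T : Ten B α β τ) (L : Subgroup (V ≃ₗ[F] V)) : Prop where
  ov : Over T L
  lose : Losing T L
  hk : 3 ≤ finrank F W
  hn : finrank F U = 2 → finrank F W ≠ 4
  hq : Nat.card F = 3 → 4 ≤ finrank F W

/-- Two vectors span an image. -/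
def Two (f : W →ₗ[F] W) : Prop := ∃ a b : W, ∀ w, f w ∈ Submodule.span F ({a, b} : Set W)

theorem Two.finrank_le {f : W →ₗ[F] W} (h : Two f) : finrank F (LinearMap.range f) ≤ 2 := by
  classical
  obtain ⟨a, b, hab⟩ := h
  have hle : LinearMap.range f ≤ Submodule.span F (({a, b} : Finset W) : Set W) := by
    rintro _ ⟨w, rfl⟩
    simpa using hab w
  exact (Submodule.finrank_mono hle).trans
    ((finrank_span_finset_le_card _).trans Finset.card_le_two)

theorem eq_zero_of_small (hk : 3 ≤ finrank F W) {f : W →ₗ[F] W} (h : Two f) {t : F}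
    (e : f = t • 1) : t = 0 := by
  by_contra ht
  have h1 := h.finrank_le
  rw [LinearMap.range_eq_top.2 (fun w => ⟨t⁻¹ • w, by
    rw [e, LinearMap.smul_apply, Module.End.one_apply, smul_smul, mul_inv_cancel₀ ht, one_smul]⟩),
    finrank_top] at h1
  omega

theorem two_refl_sub (a : W) (φ : W →ₗ[F] W) (ψ : W →ₗ[F] W) (a' : W) :
    Two (φ ∘ₗ refl β a - refl β a' ∘ₗ φ ∘ₗ ψ - (φ - φ ∘ₗ ψ)) := by
  refine ⟨φ a, a', fun w => Submodule.mem_span_pair.2
    ⟨-(2 / β a a * β w a), 2 / β a' a' * β (φ (ψ w)) a', ?_⟩⟩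
  simp only [LinearMap.sub_apply, LinearMap.comp_apply, refl_apply, map_sub, map_smul]
  module

namespace Over

variable (hL : Over T L)
include hL

theorem exists_left (p : U →ₗ[F] U) (hp : ∀ a b, α (p a) (p b) = α a b) :
    ∃ g ∈ L, ∀ a w, g (τ a w) = τ (p a) w :=
  hL.pure p LinearMap.id 1 one_ne_zero (fun a b => by rw [hp, one_mul])
    fun x y => by rw [inv_one, one_mul]; rfl

theorem exists_refl {a : W} (ha : β a a ≠ 0) :
    ∃ g ∈ L, ∀ u w, g (τ u w) = τ u (refl β a w) :=
  hL.pure LinearMap.id (refl β a) 1 one_ne_zero (fun a b => by rw [one_mul]; rfl)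
    fun x y => by rw [T.refl_iso ha, inv_one, one_mul]

end Over

/-- The element fixes a line and moves the orthogonal space into it. -/
structure Fix (T : Ten B α β τ) (g : V ≃ₗ[F] V) (x : U) (C : U →ₗ[F] Module.End F W) : Prop where
  line : ∀ w, g (τ x w) = τ x w
  perp : ∀ u w, α u x = 0 → g (τ u w) = τ u w + τ x (C u w)

theorem Fix.congr {g : V ≃ₗ[F] V} {x : U} {C C' : U →ₗ[F] Module.End F W} (h : Fix T g x C)
    (e : ∀ u, α u x = 0 → C u = C' u) : Fix T g x C' :=
  ⟨h.line, fun u w hu => by rw [h.perp u w hu, e u hu]⟩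

theorem Fix.mul {g g' : V ≃ₗ[F] V} {x : U} {C C' : U →ₗ[F] Module.End F W} (h : Fix T g x C)
    (h' : Fix T g' x C') : Fix T (g * g') x (C + C') := by
  refine ⟨fun w => by rw [LinearEquiv.mul_apply, h'.line, h.line], fun u w hu => ?_⟩
  rw [LinearEquiv.mul_apply, h'.perp u w hu, map_add, h.perp u w hu, h.line, LinearMap.add_apply,
    LinearMap.add_apply, map_add, add_assoc]

theorem Fix.inv {g : V ≃ₗ[F] V} {x : U} {C : U →ₗ[F] Module.End F W} (h : Fix T g x C) :
    Fix T g⁻¹ x (-C) := by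
  have h1 : ∀ w, (g⁻¹ : V ≃ₗ[F] V) (τ x w) = τ x w := fun w => by
    conv_lhs => rw [← h.line w]
    exact T.inv_act _
  refine ⟨h1, fun u w hu => ?_⟩
  have h2 := congrArg (g⁻¹ : V ≃ₗ[F] V) (h.perp u w hu)
  rw [T.inv_act, map_add, h1] at h2
  rw [LinearMap.neg_apply, LinearMap.neg_apply, map_neg, ← sub_eq_add_neg]
  exact eq_sub_of_add_eq h2.symm

theorem Fix.act_perp {g : V ≃ₗ[F] V} {x : U} (hx : x ≠ 0) {K : W →ₗ[F] W} {b : U}
    {C : U →ₗ[F] Module.End F W} (h : Fix T g x C) (hC : ∀ u, α u x = 0 → C u = α u b • K)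
    {y : V} (hy : T.ctr x y = 0) : g y = y + τ x (K (T.ctr b y)) := by
  have := T.eq_zero_of_perp hx (f := (g : V →ₗ[F] V) - LinearMap.id - τ x ∘ₗ K ∘ₗ T.ctr b)
    (fun u w hu => by
      simp only [LinearMap.sub_apply, LinearMap.comp_apply, LinearMap.id_apply,
        LinearEquiv.coe_coe, h.perp u w hu, hC u hu, T.ctr_tau, map_smul, LinearMap.smul_apply]
      abel) hy
  simp only [LinearMap.sub_apply, LinearMap.comp_apply, LinearMap.id_apply,
    LinearEquiv.coe_coe, sub_eq_zero] at this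
  exact sub_eq_iff_eq_add'.1 this

variable (S : Sit T L)
include S

/-- An element fixing the orthogonal space pointwise is a long element. -/
theorem long_of_fix {g : V ≃ₗ[F] V} (hg : g ∈ L) {x z : U} (hz : α z x = 1) {φ : W →ₗ[F] W}
    (hp : ∀ u w, α u x = 0 → g (τ u w) = τ u w)
    (hφ : ∀ w, g (τ z w) - τ z w = τ x (φ w)) : ∃ t : F, φ = t • 1 := by
  have hx : x ≠ 0 := fun e => by simp [e] at hz
  refine S.lose x φ g hx hg fun v => ?_
  have h1 := T.map_eq_of_perp hz (f := (g : V →ₗ[F] V) - LinearMap.id)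
    (fun u w hu => by simp [hp u w hu]) v
  simp only [LinearMap.sub_apply, LinearMap.id_apply, LinearEquiv.coe_coe, hφ] at h1
  exact sub_eq_iff_eq_add'.1 h1

/-- The commutator of two isolated shapes. -/
theorem pair_scalar {x a b : U} (hx : x ≠ 0) (ha : α a x = 0) (hb : α b x = 0) (hba : α b a = 1)
    {g g' : V ≃ₗ[F] V} (hg : g ∈ L) (hg' : g' ∈ L) {C C' : U →ₗ[F] Module.End F W}
    {K K' : Module.End F W} (h : Fix T g x C) (hC : ∀ u, α u x = 0 → C u = α u b • K)
    (h' : Fix T g' x C') (hC' : ∀ u, α u x = 0 → C' u = α u a • K') :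
    ∃ t : F, K * T.adj K' + K' * T.adj K = t • 1 := by
  obtain ⟨z, hz⟩ := T.exists_one hx
  have hab : α a b = -1 := by rw [T.α_symm, hba]
  set h₀ := g * g' * g⁻¹ * g'⁻¹ with hh₀
  have hF : Fix T h₀ x (C + C' + -C + -C') := ((h.mul h').mul h.inv).mul h'.inv
  have hp : ∀ u w, α u x = 0 → h₀ (τ u w) = τ u w := fun u w hu => by
    rw [hF.perp u w hu]
    simp
  have hperp : ∀ {k : V ≃ₗ[F] V}, k ∈ L → (∀ w, k (τ x w) = τ x w) → ∀ w,
      T.ctr x (k (τ z w) - τ z w) = 0 := fun {k} hk hkl w => by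
    rw [map_sub, T.ctr_act' (S.ov.le hk) hkl, sub_self]
  -- the second component of the displacement
  have comp : ∀ {k : V ≃ₗ[F] V}, k ∈ L → ∀ {D : U →ₗ[F] Module.End F W} {M : Module.End F W}
      {c d : U}, α d x = 0 → Fix T k x D → (∀ u, α u x = 0 → D u = α u c • M) → ∀ w,
      T.ctr d (k (τ z w) - τ z w) = -(α d c • T.adj M w) := by
    intro k hk D M c d hd hkF hD w
    refine T.β_ext fun e => ?_
    have h1 : τ d e = k (τ d e) - α d c • k (τ x (M e)) := by
      rw [hkF.perp d e hd, hkF.line, hD d hd, LinearMap.smul_apply, map_smul]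
      abel
    rw [T.β_ctr, map_sub, LinearMap.sub_apply]
    conv_lhs => arg 1; rw [h1, map_sub, map_smul, S.ov.le hk, S.ov.le hk]
    rw [T.pair z w x, hz, map_neg, map_smul, LinearMap.neg_apply, LinearMap.smul_apply, T.β_adj,
      smul_eq_mul, smul_eq_mul]
    ring
  obtain ⟨t, ht⟩ := long_of_fix S (g := h₀) (mul_mem (mul_mem (mul_mem hg hg') (inv_mem hg))
    (inv_mem hg')) hz (φ := -(K * T.adj K' + K' * T.adj K)) hp fun w => by
    set Y := g (τ z w) - τ z w with hY
    set Y' := g' (τ z w) - τ z w with hY'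
    have pY : T.ctr x Y = 0 := hperp hg h.line w
    have pY' : T.ctr x Y' = 0 := hperp hg' h'.line w
    have fixP : ∀ y, T.ctr x y = 0 → h₀ y = y := fun y hy => by
      have := T.eq_zero_of_perp hx (f := (h₀ : V →ₗ[F] V) - LinearMap.id)
        (fun u w hu => by simp [hp u w hu]) hy
      simpa [sub_eq_zero] using this
    have e1 : g (τ z w) = τ z w + Y := by rw [hY]; abel
    have e2 : g' (τ z w) = τ z w + Y' := by rw [hY']; abel
    have key : h₀ (g' (g (τ z w))) = g (g' (τ z w)) := by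
      simp only [hh₀, LinearEquiv.mul_apply, T.inv_act]
    have d1 := h.act_perp hx hC pY'
    have d2 := h'.act_perp hx hC' pY
    rw [comp hg' hb h' hC' w, hba, one_smul] at d1
    rw [comp hg ha h hC w, hab, neg_one_smul, neg_neg] at d2
    rw [e1, e2, map_add, map_add, map_add, d1, d2, e1, e2] at key
    simp only [map_add, fixP _ pY, fixP _ pY', hF.line, map_neg] at key
    simp only [LinearMap.neg_apply, LinearMap.add_apply, Module.End.mul_apply, map_neg, map_add]
    linear_combination (norm := module) key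
  exact ⟨-t, by rw [neg_smul, ← ht, neg_neg]⟩

/-- The shape of a shear of the first factor. -/
theorem exists_shear {x a : U} (ha : α a x = 0) :
    ∃ g ∈ L, (∀ u w, g (τ u w) = τ (u + α u a • x + α u x • a) w) ∧
      ∀ C : U →ₗ[F] Module.End F W, (∀ u, α u x = 0 → C u = α u a • 1) → Fix T g x C := by
  let p : U →ₗ[F] U := LinearMap.id + (α.flip a).smulRight x + (α.flip x).smulRight a
  have hp : ∀ u, p u = u + α u a • x + α u x • a := fun u => by simp [p]
  have hxa : α x a = 0 := by rw [T.α_symm, ha, neg_zero]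
  obtain ⟨g, hg, hgv⟩ := S.ov.exists_left p fun u v => by
    simp only [hp, map_add, map_smul, LinearMap.add_apply, LinearMap.smul_apply, smul_eq_mul,
      T.α_self, ha, hxa, T.α_symm x v, T.α_symm a v]
    ring
  refine ⟨g, hg, fun u w => by rw [hgv, hp], fun C hC => ⟨fun w => ?_, fun u w hu => ?_⟩⟩
  · rw [hgv, hp, hxa, T.α_self, zero_smul, zero_smul, add_zero, add_zero]
  · rw [hgv, hp, hu, zero_smul, add_zero, hC u hu]
    simp

/-- Isolating one component of a shape. -/
theorem isolate {x b : U} (hb : α b x = 0) {g : V ≃ₗ[F] V} (hg : g ∈ L)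
    {C : U →ₗ[F] Module.End F W} (h : Fix T g x C) :
    ∃ g' ∈ L, ∃ C' : U →ₗ[F] Module.End F W, Fix T g' x C' ∧
      ∀ u, α u x = 0 → C' u = α u b • C b := by
  let p : U →ₗ[F] U := LinearMap.id + (α.flip b).smulRight b
  have hp : ∀ u, p u = u + α u b • b := fun u => by simp [p]
  obtain ⟨t, ht, htv⟩ := S.ov.exists_left p fun u v => by
    simp only [hp, map_add, map_smul, LinearMap.add_apply, LinearMap.smul_apply, smul_eq_mul,
      T.α_self, T.α_symm b v]
    ring
  have hxb : α x b = 0 := by rw [T.α_symm, hb, neg_zero]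
  have tx : ∀ w, t (τ x w) = τ x w := fun w => by rw [htv, hp, hxb, zero_smul, add_zero]
  have ti : ∀ u w, (t⁻¹ : V ≃ₗ[F] V) (τ u w) = τ (u - α u b • b) w := fun u w => by
    have : t (τ (u - α u b • b) w) = τ u w := by
      rw [htv, hp]
      congr 1
      rw [map_sub, LinearMap.sub_apply, map_smul, LinearMap.smul_apply, T.α_self, smul_zero,
        sub_zero, sub_add_cancel]
    rw [← this, T.inv_act]
  let q : U →ₗ[F] U := LinearMap.id - (α.flip b).smulRight b
  have hq : ∀ u, q u = u - α u b • b := fun u => by simp [q]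
  have hconj : Fix T (t * g * t⁻¹) x (C ∘ₗ q) := by
    refine ⟨fun w => ?_, fun u w hu => ?_⟩
    · rw [LinearEquiv.mul_apply, LinearEquiv.mul_apply, ti, hxb, zero_smul, sub_zero, h.line, tx]
    · rw [LinearEquiv.mul_apply, LinearEquiv.mul_apply, ti, h.perp _ w (by simp [hu, hb]),
        map_add, tx, ← T.act_inv (g := t) (τ u w), ti, LinearMap.comp_apply, hq]

  refine ⟨g * (t * g * t⁻¹)⁻¹, mul_mem hg (inv_mem (mul_mem (mul_mem ht hg) (inv_mem ht))), _,
    h.mul hconj.inv, fun u _ => ?_⟩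
  rw [LinearMap.add_apply, LinearMap.neg_apply, LinearMap.comp_apply, hq, map_sub, map_smul]
  abel

theorem exists_partner {x b : U} (hb : α b x = 0) (hbx : b ∉ Submodule.span F {x}) :
    ∃ a, α a x = 0 ∧ α b a = 1 := by
  obtain ⟨f, hf, hfP⟩ := Submodule.exists_dual_map_eq_bot_of_notMem hbx inferInstance
  refine ⟨-((α.toDual T.nα).symm ((f b)⁻¹ • f)), ?_, ?_⟩
  · have h1 : f x ∈ (Submodule.span F {x}).map f :=
      ⟨x, Submodule.mem_span_singleton_self x, rfl⟩
    rw [hfP, Submodule.mem_bot] at h1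
    rw [map_neg, LinearMap.neg_apply, LinearMap.BilinForm.apply_toDual_symm_apply]
    simp [h1]
  · rw [map_neg, T.α_symm, LinearMap.BilinForm.apply_toDual_symm_apply]
    simp [inv_mul_cancel₀ hf]

/-- The coefficients of shapes are scalar. -/
theorem fix_scalar {x : U} (hx : x ≠ 0) {g : V ≃ₗ[F] V} (hg : g ∈ L)
    {C : U →ₗ[F] Module.End F W} (h : Fix T g x C) (b : U) (hb : α b x = 0) :
    ∃ t : F, C b = t • 1 := by
  classical
  by_cases hbx : b ∈ Submodule.span F {x}
  · obtain ⟨s, rfl⟩ := Submodule.mem_span_singleton.1 hbx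
    refine ⟨0, ?_⟩
    have hCx : C x = 0 := LinearMap.ext fun w => T.tau_inj hx (w := C x w) (w' := 0) (by
      have h1 := h.perp x w (T.α_self x)
      rw [h.line, left_eq_add] at h1
      rw [h1, map_zero])
    rw [map_smul, hCx, smul_zero, zero_smul]
  obtain ⟨a, ha, hba⟩ := exists_partner S hb hbx
  -- the symmetric part
  obtain ⟨g₁, hg₁, C₁, h₁, hC₁⟩ := isolate S hb hg h
  obtain ⟨p, hp, -, hpF⟩ := exists_shear S ha
  obtain ⟨σ, hσ⟩ := pair_scalar S hx ha hb hba hg₁ hp h₁ hC₁
    (hpF ((α.flip a).smulRight (1 : Module.End F W)) fun u _ => by simp) (K' := 1) (fun u _ => by simp)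
  rw [T.adj_one, mul_one, one_mul] at hσ
  set ρ := (2 : F)⁻¹ * σ
  set K := C b - ρ • (1 : Module.End F W) with hK
  have hskew : ∀ u v, β (K u) v = -β u (K v) := by
    intro u v
    have h1 := LinearMap.congr_fun hσ v
    have h3 := congrArg (fun w => β u w) h1
    simp only [LinearMap.add_apply, LinearMap.smul_apply, Module.End.one_apply, map_add, map_smul,
      smul_eq_mul, T.β_adj'] at h3
    simp only [hK, LinearMap.sub_apply, LinearMap.smul_apply, Module.End.one_apply, map_sub,
      map_smul, LinearMap.sub_apply, LinearMap.smul_apply, smul_eq_mul]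
    have h4 : ρ + ρ = σ := by rw [← two_mul, ← mul_assoc, mul_inv_cancel₀ T.h2, one_mul]
    linear_combination h3 - β u v * h4
  -- the skew part commutes with reflections
  have hKa : ∀ c, β c c ≠ 0 → K c = 0 := by
    intro c hc
    obtain ⟨r, hr, hrv⟩ := S.ov.exists_refl hc
    have ri : ∀ u w, (r⁻¹ : V ≃ₗ[F] V) (τ u w) = τ u (refl β c w) := fun u w => by
      have : r (τ u (refl β c w)) = τ u w := by rw [hrv, T.refl_refl hc]
      rw [← this, T.inv_act]
    let cj : Module.End F W →ₗ[F] Module.End F W :=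
      LinearMap.mulLeft F (refl β c) ∘ₗ LinearMap.mulRight F (refl β c)
    have hcj : ∀ φ w, cj φ w = refl β c (φ (refl β c w)) := fun φ w => rfl
    have hF : Fix T (r * g₁ * r⁻¹) x (cj ∘ₗ C₁) := by
      refine ⟨fun w => ?_, fun u w hu => ?_⟩
      · rw [LinearEquiv.mul_apply, LinearEquiv.mul_apply, ri, h₁.line, hrv, T.refl_refl hc]
      · rw [LinearEquiv.mul_apply, LinearEquiv.mul_apply, ri, h₁.perp u _ hu, map_add, hrv, hrv,
          T.refl_refl hc]
        rfl
    set K' : Module.End F W := C b - cj (C b) with hK'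
    have hg₂ : g₁ * (r * g₁ * r⁻¹)⁻¹ ∈ L :=
      mul_mem hg₁ (inv_mem (mul_mem (mul_mem hr hg₁) (inv_mem hr)))
    have h₂ := h₁.mul hF.inv
    have hC₂ : ∀ u, α u x = 0 → (C₁ + -(cj ∘ₗ C₁)) u = α u b • K' := fun u hu => by
      rw [LinearMap.add_apply, LinearMap.neg_apply, LinearMap.comp_apply, hC₁ u hu, map_smul,
        hK', smul_sub, ← sub_eq_add_neg]
    obtain ⟨g₃, hg₃, C₃, h₃, hC₃⟩ := isolate S ha hg₂ h₂
    obtain ⟨s, hs⟩ := pair_scalar S hx ha hb hba hg₂ hg₃ h₂ hC₂ h₃ (K' := -K') fun u hu => by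
      rw [hC₃ u hu, hC₂ a ha, T.α_symm a b, hba, neg_one_smul]
    have hK'e : ∀ w, K' w = K w - refl β c (K (refl β c w)) := fun w => by
      rw [hK', LinearMap.sub_apply, hcj, hK]
      simp only [LinearMap.sub_apply, LinearMap.smul_apply, Module.End.one_apply, map_sub, map_smul,
        T.refl_refl hc]
      abel
    have hcK : β (K c) c = 0 := by
      have h1 := hskew c c
      rw [T.sβ c] at h1
      exact (mul_eq_zero.1 (show (2 : F) * β (K c) c = 0 by linear_combination h1)).resolve_left T.h2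
    have hcc : K' c = (2 : F) • K c := by
      rw [hK'e, T.refl_self hc, map_neg, map_neg, refl_apply, hcK, mul_zero, zero_smul, sub_zero,
        two_smul, sub_neg_eq_add]
    have hperp : ∀ w, β w c = 0 → K' w = -(2 / β c c * β w (K c)) • c := fun w hw => by
      rw [hK'e, refl_apply β c w, hw, mul_zero, zero_smul, sub_zero, refl_apply, hskew]
      rw [mul_neg, neg_smul]
      abel
    -- the square vanishes
    have hskew' : T.adj K' = -K' := T.adj_eq fun u v => by
      have hr : ∀ a b, β (refl β c a) b = β a (refl β c b) := fun a b => by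
        conv_lhs => rw [← T.refl_refl hc b, T.refl_iso hc]
      rw [LinearMap.neg_apply, map_neg, LinearMap.neg_apply, hK'e, hK'e, map_sub, map_sub,
        LinearMap.sub_apply, hskew, hr, hskew, hr]
      ring
    rw [T.adj_neg, hskew', neg_neg, mul_neg] at hs
    have hsq : K' * K' = ((2 : F)⁻¹ * s) • 1 := by
      rw [mul_smul, ← hs, neg_mul, neg_neg,
        show K' * K' + K' * K' = (2 : F) • (K' * K') by rw [two_smul], smul_smul,
        inv_mul_cancel₀ T.h2, one_smul]
    have hsmall : Two (K' * K') := ⟨c, K c, fun w => by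
      rw [Module.End.mul_apply]
      generalize K' w = v
      have hdec : v = (β v c / β c c) • c + (v - (β v c / β c c) • c) := by abel
      rw [hdec, map_add, map_smul, hcc, hperp _ (by simp [map_sub, div_mul_cancel₀ _ hc])]
      exact add_mem (Submodule.smul_mem _ _ (Submodule.smul_mem _ _
        (Submodule.subset_span (Set.mem_insert_of_mem _ rfl))))
        (Submodule.smul_mem _ _ (Submodule.subset_span (Set.mem_insert _ _)))⟩
    have hzero : K' * K' = 0 := by
      rw [hsq, eq_zero_of_small S.hk hsmall hsq, zero_smul]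
    by_contra hKc
    obtain ⟨v, hv⟩ : ∃ v, β v (K c) ≠ 0 := Symp.exists_apply_ne_zero T.nβ hKc
    set w := v - (β v c / β c c) • c
    have hw : β w c = 0 := by simp [w, div_mul_cancel₀ _ hc]
    have hwK : β w (K c) ≠ 0 := by
      rw [show β w (K c) = β v (K c) - β v c / β c c * β (K c) c by simp [w, T.sβ c (K c)], hcK,
        mul_zero, sub_zero]
      exact hv
    have h5 := LinearMap.congr_fun hzero w
    rw [Module.End.mul_apply, hperp w hw, map_smul, hcc, LinearMap.zero_apply, smul_smul,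
      smul_eq_zero] at h5
    rcases h5 with h5 | h5
    · exact mul_ne_zero (neg_ne_zero.2 (mul_ne_zero (div_ne_zero T.h2 hc) hwK)) T.h2 h5
    · exact hKc h5
  refine ⟨ρ, sub_eq_zero.1 ?_⟩
  exact T.eq_zero_of_aniso (by have := S.hk; omega) hKa

end Cfsg.Lib.Linear.SpOTensor
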