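import Cfsg.Agent.Lib.Linear.SpOTensor.Root
import Cfsg.Agent.Lib.Linear.SpOTensor.Field
import Mathlib.LinearAlgebra.Eigenspace.Minpoly

/-!
# Coefficients at a line are scalar
-/

set_option autoImplicit false
set_option linter.unusedSectionVars false

namespace Cfsg.Lib.Linear.SpOTensor

open Module Polynomial
open Cfsg.Lib.Linear

variable {F V U W : Type*} [Field F] [AddCommGroup V] [Module F V] [FiniteDimensional F V]
  [AddCommGroup U] [Module F U] [FiniteDimensional F U]
  [AddCommGroup W] [Module F W] [FiniteDimensional F W]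
  {B : LinearMap.BilinForm F V} {α : LinearMap.BilinForm F U} {β : LinearMap.BilinForm F W}
  {τ : U →ₗ[F] W →ₗ[F] V} {T : Ten B α β τ} {L : Subgroup (V ≃ₗ[F] V)}

/-- The action on the line is given by two polynomials in the coefficient. -/
def Rep (τ : U →ₗ[F] W →ₗ[F] V) (x : U) (Y : V →ₗ[F] V) (M : Module.End F W) (h : V ≃ₗ[F] V)
    (a c : F[X]) : Prop :=
  ∀ w, h (τ x w) = τ x (aeval M a w) + Y (τ x (aeval M c w))

theorem adj_aeval (T : Ten B α β τ) {M : Module.End F W} (hM : T.adj M = M) (p : F[X]) :
    T.adj (aeval M p) = aeval M p := by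
  induction p using Polynomial.induction_on' with
  | add p q hp hq => rw [map_add, T.adj_add, hp, hq]
  | monomial n r =>
    have hn : T.adj (M ^ n) = M ^ n := by
      induction n with
      | zero => rw [pow_zero]; exact T.adj_one
      | succ n ih => rw [pow_succ, T.adj_mul, ih, hM, ← pow_succ', pow_succ]
    rw [aeval_monomial, ← Algebra.smul_def, T.adj_smul, hn]

variable (S : Sit T L)
include S

section Words

variable {x : U} {Y : V →ₗ[F] V} {M : Module.End F W} (D : Dat T L x Y M)
include D

theorem rep_upper {h : V ≃ₗ[F] V} (hh : h ∈ L) {a c : F[X]} (hr : Rep τ x Y M h a c) (r : F) :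
    ∃ h' ∈ L, Rep τ x Y M h' (a + C r * (X * c)) c := by
  obtain ⟨g, hg, hgv⟩ := exists_long S x r
  refine ⟨g * h, mul_mem hg hh, fun w => ?_⟩
  rw [LinearEquiv.mul_apply, hr, hgv, Ten.lng_apply]
  simp only [map_add, T.ctr_tau, T.α_self, zero_smul, zero_add, D.coef, map_mul, aeval_C, aeval_X,
    LinearMap.add_apply, Module.End.mul_apply, Module.algebraMap_end_apply, map_smul]
  abel

theorem rep_lower {h : V ≃ₗ[F] V} (hh : h ∈ L) {a c : F[X]} (hr : Rep τ x Y M h a c) (t : F) :
    ∃ h' ∈ L, Rep τ x Y M h' a (c + C t * a) := by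
  obtain ⟨g, hg, hgv⟩ := D.mem t
  refine ⟨g * h, mul_mem hg hh, fun w => ?_⟩
  rw [LinearEquiv.mul_apply, hr, hgv]
  simp only [map_add, D.sq, add_zero, map_mul, aeval_C, LinearMap.add_apply, Module.End.mul_apply,
    Module.algebraMap_end_apply, map_smul]
  abel

/-- A word killing an eigen-direction stabilises the line. -/
theorem rep_kill (hx : x ≠ 0) (low : Low T L x (finrank F (LinearMap.range M))) {h : V ≃ₗ[F] V}
    (hh : h ∈ L) {a c : F[X]} (hr : Rep τ x Y M h a c) {v : W} (hv : M v ≠ 0)
    (hcv : aeval M c v = 0) :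
    (∀ w, M (aeval M c w) = 0) ∧ ∃ s : F, ∀ w, aeval M (a * a) w = s • w := by
  have hcomm : ∀ w, M (aeval M c w) = aeval M c (M w) := fun w => by
    have h1 : Commute (aeval M X) (aeval M c) := (Commute.all X c).map (aeval M)
    rw [aeval_X] at h1
    exact LinearMap.congr_fun h1.eq w
  have hent : ∀ w, T.ent h x x w = M (aeval M c w) := fun w => by
    rw [Ten.ent_apply, hr, map_add, T.ctr_tau, T.α_self, zero_smul, zero_add, D.coef]
  have hker : LinearMap.ker M < LinearMap.ker (T.ent h x x) := by
    refine lt_of_le_of_ne (fun w hw => ?_) fun e => hv ?_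
    · rw [LinearMap.mem_ker] at hw ⊢
      rw [hent, hcomm, hw, map_zero]
    · have h1 : v ∈ LinearMap.ker (T.ent h x x) := by rw [LinearMap.mem_ker, hent, hcv, map_zero]
      rw [← e] at h1
      exact h1
  have h0 : T.ent h x x = 0 := low h hh (by
    have h1 := Submodule.finrank_lt_finrank_of_lt hker
    have h2 := (T.ent h x x).finrank_range_add_finrank_ker
    have h3 := LinearMap.finrank_range_add_finrank_ker M
    omega)
  have hc0 : ∀ w, M (aeval M c w) = 0 := fun w => by rw [← hent, h0, LinearMap.zero_apply]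
  refine ⟨hc0, ?_⟩
  have hline : ∀ w, h (τ x w) = τ x (aeval M a w) := fun w => by
    rw [hr, D.ker _ (hc0 w), add_zero]
  have hinj : Function.Injective (aeval M a : Module.End F W) := fun w w' e =>
    T.tau_inj hx (h.injective (by rw [hline, hline, e]))
  obtain ⟨s, -, hs, -⟩ := line_similitude S hh hx (A := LinearEquiv.ofInjectiveEndo _ hinj) hline
  refine ⟨s, fun w => ?_⟩
  rw [map_mul, Module.End.mul_apply]
  have h1 := hs w
  have h2 : T.adj (LinearEquiv.ofInjectiveEndo _ hinj).toLinearMap w = aeval M a w := by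
    have e : (LinearEquiv.ofInjectiveEndo _ hinj).toLinearMap = aeval M a := LinearMap.ext fun u => rfl
    rw [e, adj_aeval T (D.adj_coef S)]
  rw [h2] at h1
  exact h1

theorem rep_one : Rep τ x Y M (1 : V ≃ₗ[F] V) 1 0 := fun w => by
  simp [Module.End.one_apply]

/-- The three-letter word at an eigenvalue. -/
theorem eigen_word (hx : x ≠ 0) (low : Low T L x (finrank F (LinearMap.range M))) {l : F}
    (hl : l ≠ 0) {v : W} (hv0 : v ≠ 0) (hv : M v = l • v) {y : F} (hy0 : y ≠ 0) (hy1 : y ≠ 1) :
    (∀ w, M (M w) = l • M w) ∧ ∀ w, M w = 0 → w ≠ 0 → y * y = 1 := by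
  set u := (y - 1) / l with hu
  set t := -u / y with ht
  obtain ⟨h1, hh1, r1⟩ := rep_lower S D (one_mem L) (rep_one S D) u
  obtain ⟨h2, hh2, r2⟩ := rep_upper S D hh1 r1 1
  obtain ⟨h3, hh3, r3⟩ := rep_lower S D hh2 r2 t
  simp only [mul_one, zero_add, map_one, one_mul] at r3
  have hu0 : u ≠ 0 := div_ne_zero (sub_ne_zero.2 hy1) hl
  have ht0 : t ≠ 0 := div_ne_zero (neg_ne_zero.2 hu0) hy0
  have hce : ∀ w, aeval M (C u + C t * (1 + X * C u)) w = (u + t) • w + (t * u) • M w := fun w => by
    simp only [map_add, map_mul, map_one, aeval_C, aeval_X, LinearMap.add_apply,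
      Module.End.mul_apply, Module.End.one_apply, Module.algebraMap_end_apply, map_smul]
    module
  have hae : ∀ w, aeval M (1 + X * C u) w = w + u • M w := fun w => by
    simp only [map_add, map_mul, map_one, aeval_C, aeval_X, LinearMap.add_apply,
      Module.End.mul_apply, Module.End.one_apply, Module.algebraMap_end_apply, map_smul]
  have hcoef : u + t + t * u * l = 0 := by
    rw [ht, hu]
    field_simp
    ring
  have hMv : M v ≠ 0 := by rw [hv]; exact smul_ne_zero hl hv0
  obtain ⟨hc, s, hs⟩ := rep_kill S D hx low hh3 r3 hMv (by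
    rw [hce, hv, smul_smul, ← add_smul, hcoef, zero_smul])
  have hsq : ∀ w, aeval M ((1 + X * C u) * (1 + X * C u)) w = (w + u • M w) + u • M (w + u • M w) :=
    fun w => by rw [map_mul, Module.End.mul_apply, hae, hae]
  refine ⟨fun w => ?_, fun w hw hw0 => ?_⟩
  · have h4 := hc w
    rw [hce, map_add, map_smul, map_smul] at h4
    have h5 : (t * u) • (M (M w) - l • M w) = 0 := by
      rw [eq_neg_of_add_eq_zero_left hcoef] at h4
      linear_combination (norm := module) h4
    exact sub_eq_zero.1 ((smul_eq_zero.1 h5).resolve_left (mul_ne_zero ht0 hu0))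
  · have e0 := hs w
    rw [hsq, hw, smul_zero, add_zero, hw, smul_zero, add_zero] at e0
    have hs1 : s = 1 := (smul_left_injective F hw0 (show (fun c : F => c • w) s =
      (fun c : F => c • w) 1 by simp only [one_smul]; exact e0.symm))
    have ev := hs v
    rw [hsq, hv, hs1, one_smul, map_add, map_smul, map_smul, hv] at ev
    have h6 : (y * y - 1) • v = 0 := by
      have e : y = 1 + u * l := by rw [hu]; field_simp; ring
      rw [e]
      linear_combination (norm := module) ev
    exact sub_eq_zero.1 ((smul_eq_zero.1 h6).resolve_right hv0)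

/-- A non-scalar coefficient has no eigenvalue in the field. -/
theorem no_eigen [Fintype F] (hx : x ≠ 0) (low : Low T L x (finrank F (LinearMap.range M)))
    (hns : ∀ t : F, M ≠ t • 1) {l : F} (hl : l ≠ 0) {v : W} (hv0 : v ≠ 0) (hv : M v = l • v) :
    False := by
  classical
  have hm1 : (-1 : F) ≠ 1 := fun h => T.h2 (by linear_combination -h)
  obtain ⟨hM, -⟩ := eigen_word S D hx low hl hv0 hv (neg_ne_zero.2 one_ne_zero) hm1
  obtain ⟨w₀, hw₀, hMw₀⟩ : ∃ w, w ≠ 0 ∧ M w = 0 := by
    by_contra hc
    push Not at hc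
    refine hns l (LinearMap.ext fun w => ?_)
    rw [LinearMap.smul_apply, Module.End.one_apply]
    by_contra hne
    refine hc (M w - l • w) (sub_ne_zero.2 hne) ?_
    rw [map_sub, map_smul, hM, sub_self]
  by_cases hq : ∃ y : F, y ≠ 0 ∧ y * y ≠ 1
  · obtain ⟨y, hy0, hyy⟩ := hq
    exact hyy ((eigen_word S D hx low hl hv0 hv hy0 (fun e => hyy (by rw [e, one_mul]))).2 w₀ hMw₀ hw₀)
  push Not at hq
  have h3 : (3 : F) = 0 := by
    by_cases h3 : (3 : F) = 0
    · exact h3
    · have h4 := hq 2 T.h2
      linear_combination h4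
  have hcard : Nat.card F = 3 := by
    have hle : (Finset.univ : Finset F) ⊆ {0, 1, -1} := fun y _ => by
      rcases eq_or_ne y 0 with rfl | hy
      · simp
      · rcases mul_self_eq_one_iff.1 (hq y hy) with rfl | rfl <;> simp
    have h5 := (Finset.card_le_card hle).trans Finset.card_le_three
    rw [Finset.card_univ] at h5
    have h6 := FiniteField.odd_card_of_char_ne_two (F := F) (fun hc2 => T.h2 (by
      have h0 : ((2 : ℕ) : F) = 0 := hc2 ▸ ringChar.Nat.cast_ringChar
      exact_mod_cast h0))
    have h7 := Fintype.one_lt_card (α := F)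
    rw [Nat.card_eq_fintype_card]
    omega
  exact no_idem S h3 (S.hq hcard) hx D low (hq l hl) hM (w₁ := v)
    (by rw [hv]; exact smul_ne_zero hl hv0) hw₀ hMw₀

/-- The coefficient is scalar. -/
theorem coef_scalar [Fintype F] (hx : x ≠ 0) (low : Low T L x (finrank F (LinearMap.range M))) :
    ∃ t : F, M = t • 1 := by
  classical
  by_contra hns
  push Not at hns
  have hM0 : M ≠ 0 := fun h => hns 0 (by rw [h, zero_smul])
  -- an irreducible factor of the minimal polynomial other than `X`
  obtain ⟨f, hf, hf0, v, hv0, hfv⟩ : ∃ f : F[X], Irreducible f ∧ f.coeff 0 ≠ 0 ∧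
      ∃ v : W, v ≠ 0 ∧ aeval M f v = 0 := by
    have hint : IsIntegral F M := Algebra.IsIntegral.isIntegral M
    obtain ⟨m, hm, hXm⟩ := exists_eq_pow_rootMultiplicity_mul_and_not_dvd (minpoly F M)
      (minpoly.ne_zero hint) 0
    rw [C_0, sub_zero] at hm hXm
    set n := rootMultiplicity 0 (minpoly F M)
    have hm0 : m ≠ 0 := fun h => minpoly.ne_zero hint (by rw [hm, h, mul_zero])
    have hmu : ¬ IsUnit m := by
      intro hu
      obtain ⟨r, hr, hrm⟩ := Polynomial.isUnit_iff.1 hu
      have h1 : aeval M (minpoly F M) = 0 := minpoly.aeval F M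
      rw [hm, ← hrm, map_mul, map_pow, aeval_X, aeval_C] at h1
      have h2 : M ^ n = 0 := by
        refine LinearMap.ext fun w => ?_
        have h3 := LinearMap.congr_fun h1 w
        rw [Module.End.mul_apply, Module.algebraMap_end_apply, map_smul, LinearMap.zero_apply] at h3
        rw [LinearMap.zero_apply]
        exact (smul_eq_zero.1 h3).resolve_left hr.ne_zero
      refine hM0 (LinearMap.ext fun w => ?_)
      have hst : ∀ i, ∀ w, (M ^ (i + 1)) w = 0 → M w = 0 := by
        intro i
        induction i with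
        | zero => simp
        | succ i ih =>
          intro w hw
          rw [pow_succ, Module.End.mul_apply] at hw
          exact D.stab w (ih (M w) hw)
      rw [LinearMap.zero_apply]
      exact hst n w (by rw [pow_succ', Module.End.mul_apply, h2]; simp)
    obtain ⟨f, hf, m', rfl⟩ := WfDvdMonoid.exists_irreducible_factor hmu hm0
    refine ⟨f, hf, fun h0 => hXm (dvd_mul_of_dvd_left (X_dvd_iff.2 h0) _), ?_⟩
    have hne : aeval M (X ^ n * m') ≠ 0 := by
      intro h0
      have hdeg := minpoly.degree_le_of_ne_zero F M (mul_ne_zero (pow_ne_zero _ X_ne_zero)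
        (right_ne_zero_of_mul hm0)) h0
      rw [hm, show X ^ n * (f * m') = f * (X ^ n * m') by ring, degree_mul] at hdeg
      have hfd := Polynomial.natDegree_pos_iff_degree_pos.1 hf.natDegree_pos
      have hd := degree_ne_bot.2 (mul_ne_zero (pow_ne_zero n (X_ne_zero (R := F)))
        (right_ne_zero_of_mul hm0))
      obtain ⟨e, he⟩ := WithBot.ne_bot_iff_exists.1 hd
      obtain ⟨e', he'⟩ := WithBot.ne_bot_iff_exists.1 (degree_ne_bot.2 hf.ne_zero)
      rw [← he, ← he', ← WithBot.coe_add, WithBot.coe_le_coe] at hdeg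
      rw [← he'] at hfd
      have := WithBot.coe_lt_coe.1 hfd
      omega
    obtain ⟨u, hu⟩ : ∃ u, aeval M (X ^ n * m') u ≠ 0 := by
      by_contra hc
      push Not at hc
      exact hne (LinearMap.ext fun u => by rw [hc, LinearMap.zero_apply])
    refine ⟨_, hu, ?_⟩
    rw [← Module.End.mul_apply, ← map_mul, show f * (X ^ n * m') = minpoly F M by rw [hm]; ring,
      minpoly.aeval, LinearMap.zero_apply]
  haveI := Fact.mk hf
  have hMv : M v ≠ 0 := by
    intro h
    have h1 : aeval M f v = f.coeff 0 • v := by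
      conv_lhs => rw [← X_mul_divX_add f, mul_comm]
      rw [map_add, map_mul, aeval_X, aeval_C, LinearMap.add_apply, Module.End.mul_apply, h, map_zero,
        zero_add, Module.algebraMap_end_apply]
    rw [hfv] at h1
    exact hv0 ((smul_eq_zero.1 h1.symm).resolve_left hf0)
  have hdvd : ∀ g : F[X], aeval (AdjoinRoot.root f) g = 0 → aeval M g v = 0 := fun g hg => by
    rw [AdjoinRoot.aeval_eq, AdjoinRoot.mk_eq_zero] at hg
    obtain ⟨g', rfl⟩ := hg
    rw [mul_comm, map_mul, Module.End.mul_apply, hfv, map_zero]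
  have hconv : ∀ g : F[X], aeval M g v = 0 → aeval (AdjoinRoot.root f) g = 0 := fun g hg => by
    rw [AdjoinRoot.aeval_eq, AdjoinRoot.mk_eq_zero]
    by_contra hnd
    obtain ⟨p, q, hpq⟩ := (hf.coprime_iff_not_dvd.2 hnd : IsCoprime f g)
    have h1 := congrArg (fun r => aeval M r v) hpq
    simp only [map_add, map_mul, map_one, LinearMap.add_apply, Module.End.mul_apply, hfv, hg,
      map_zero, add_zero, Module.End.one_apply] at h1
    exact hv0 h1.symm
  set K := AdjoinRoot f
  haveI : Module.Finite F K := (AdjoinRoot.powerBasis hf.ne_zero).finite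
  haveI : Finite K := Module.finite_of_finite F
  set ρ := AdjoinRoot.root f
  by_cases hρ : ρ ∈ Set.range (algebraMap F K)
  · obtain ⟨l, hl⟩ := hρ
    have h1 := hdvd (X - C l) (by rw [map_sub, aeval_X, aeval_C, hl, sub_self])
    rw [map_sub, aeval_X, aeval_C, LinearMap.sub_apply, Module.algebraMap_end_apply,
      sub_eq_zero] at h1
    exact no_eigen S D hx low hns (fun e => hMv (by rw [h1, e, zero_smul])) hv0 h1
  by_cases hc : ∃ c : F, c ≠ 0 ∧ (algebraMap F K c * ρ) ^ 2 ≠ -1
  · obtain ⟨c, hc0, hc1⟩ := hc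
    have hμ : algebraMap F K c * ρ ∉ Set.range (algebraMap F K) := by
      rintro ⟨r, hr⟩
      refine hρ ⟨c⁻¹ * r, ?_⟩
      rw [map_mul, hr, map_inv₀, ← mul_assoc, inv_mul_cancel₀ (by simpa using hc0), one_mul]
    have h2 : (2 : K) ≠ 0 := fun h => T.h2 ((algebraMap F K).injective (by
      rw [map_ofNat, map_zero]; exact h))
    obtain ⟨ξ, ⟨h, hh, a, g, hr, ha, hg⟩, hξ⟩ := exists_pair_zero (F := F) h2 hμ hc1
      (P := fun p q => ∃ h ∈ L, ∃ a g, Rep τ x Y M h a g ∧ aeval ρ a = p ∧ aeval ρ g = q)
      ⟨1, one_mem L, 1, 0, rep_one S D, map_one _, map_zero _⟩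
      (fun s p q ⟨h, hh, a, g, hr, ha, hg⟩ => by
        obtain ⟨h', hh', hr'⟩ := rep_upper S D hh hr ((s : F) * c)
        refine ⟨h', hh', _, _, hr', ?_, hg⟩
        simp only [map_add, map_mul, aeval_C, aeval_X, ha, hg, map_intCast]
        ring)
      (fun s p q ⟨h, hh, a, g, hr, ha, hg⟩ => by
        obtain ⟨h', hh', hr'⟩ := rep_lower S D hh hr (s : F)
        refine ⟨h', hh', _, _, hr', ha, ?_⟩
        rw [map_add, map_mul, aeval_C, ha, hg, map_intCast])
    obtain ⟨-, s, hs⟩ := rep_kill S D hx low hh hr hMv (hdvd g hg)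
    refine hξ ⟨s, ?_⟩
    have h1 := hconv (a * a - C s) (by
      rw [map_sub, aeval_C, LinearMap.sub_apply, Module.algebraMap_end_apply, hs, sub_self])
    rw [map_sub, map_mul, aeval_C, ha, sub_eq_zero] at h1
    rw [← h1, sq]
  -- the exceptional case
  push Not at hc
  have hρ2 : ρ ^ 2 = -1 := by simpa using hc 1 one_ne_zero
  have hcc : ∀ c : F, c ≠ 0 → c * c = 1 := fun c hc0 => by
    have h1 := hc c hc0
    rw [mul_pow, hρ2, mul_neg, mul_one, neg_inj, ← map_pow] at h1
    rw [← pow_two]
    exact (algebraMap F K).injective (h1.trans (map_one _).symm)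
  have h3 : (3 : F) = 0 := by linear_combination hcc 2 T.h2
  have hMMv : M (M v) = -v := by
    have h1 := hdvd (X ^ 2 + 1) (by rw [map_add, map_pow, aeval_X, map_one, hρ2, neg_add_cancel])
    rw [map_add, map_pow, aeval_X, map_one, LinearMap.add_apply, Module.End.one_apply, pow_two,
      Module.End.mul_apply] at h1
    exact eq_neg_of_add_eq_zero_left h1
  by_cases hsc : ∃ t : F, -(M * M) = t • (1 : Module.End F W)
  · obtain ⟨t, ht⟩ := hsc
    have ht1 : t = 1 := by
      have h1 := LinearMap.congr_fun ht v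
      rw [LinearMap.neg_apply, Module.End.mul_apply, hMMv, neg_neg, LinearMap.smul_apply,
        Module.End.one_apply] at h1
      exact (smul_left_injective F hv0 (show (fun c : F => c • v) 1 = (fun c : F => c • v) t by
        simp only [one_smul]; exact h1)).symm
    have hMM : ∀ w, M (M w) = -w := fun w => by
      have h1 := LinearMap.congr_fun ht w
      rw [LinearMap.neg_apply, Module.End.mul_apply, ht1, one_smul, Module.End.one_apply,
        neg_eq_iff_eq_neg] at h1
      exact h1
    have hrk : finrank F (LinearMap.range M) = finrank F W := by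
      rw [LinearMap.range_eq_top.2 fun w => ⟨-M w, by rw [map_neg, hMM, neg_neg]⟩, finrank_top]
    exact no_root S h3 hx D (hrk ▸ low) hMM hns
  · push Not at hsc
    obtain ⟨Y', D'⟩ := D.sqDat S
    have hrk : finrank F (LinearMap.range (-(M * M))) = finrank F (LinearMap.range M) := by
      rw [LinearMap.range_neg, D.rank_sq S]
    exact no_eigen S D' hx (hrk ▸ low) hsc one_ne_zero hv0 (by
      rw [LinearMap.neg_apply, Module.End.mul_apply, hMMv, neg_neg, one_smul])

end Words

/-- Singular entries at a line vanish. -/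
theorem low_all [Fintype F] {x : U} (hx : x ≠ 0) (n : ℕ) (hn : n ≤ finrank F W) :
    Low T L x n := by
  induction n with
  | zero => intro g _ h; omega
  | succ n ih =>
    have ih' := ih (by omega)
    intro g hg hr
    by_cases hlt : finrank F (LinearMap.range (T.ent g x x)) < n
    · exact ih' g hg hlt
    set A := T.ent g x x with hA
    -- a self-adjoint entry of the same rank
    have self : ∀ h ∈ L, T.adj (T.ent h x x) = T.ent h x x →
        finrank F (LinearMap.range (T.ent h x x)) < n + 1 → T.ent h x x = 0 := by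
      intro h hh hadj hr'
      set M : Module.End F W := T.ent h x x with hM
      obtain ⟨k, hk, he⟩ := exists_ent_adj S hh x x
      rw [← hM, hadj] at he
      have hkM : T.ent k x x = -(M * M) := he
      have hzero : M * M = 0 → M = 0 := fun e => null S hh hx hx
        (fun w => by rw [← hM, hadj]; exact LinearMap.congr_fun e w)
        (fun w => by rw [← hM, hadj]; exact LinearMap.congr_fun e w)
      by_cases hlt2 : finrank F (LinearMap.range (M * M)) < n
      · refine hzero ?_
        have h0 := ih' k hk (by rwa [hkM, LinearMap.range_neg])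
        rwa [hkM, neg_eq_zero] at h0
      have hle := finrank_range_mul_le M M
      have hker : LinearMap.ker (M * M) = LinearMap.ker M := by
        refine (Submodule.eq_of_le_of_finrank_eq (fun w hw => ?_) ?_).symm
        · rw [LinearMap.mem_ker] at hw ⊢; rw [Module.End.mul_apply, hw, map_zero]
        · have h1 := (M * M).finrank_range_add_finrank_ker
          have h2 := LinearMap.finrank_range_add_finrank_ker M
          omega
      have hstab : ∀ w, M (M w) = 0 → M w = 0 := fun w hw => by
        have : w ∈ LinearMap.ker M := hker ▸ hw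
        exact this
      have hstab2 : ∀ w, M (M (M (M w))) = 0 → M w = 0 := fun w hw =>
        hstab w (hstab _ (hstab _ hw))
      have D : Dat T L x (T.cnj h x) (-(M * M)) := by
        have hci : ∀ w, T.ctr x ((h⁻¹ : V ≃ₗ[F] V) (τ x w)) = -M w := fun w => by
          have h1 := LinearMap.congr_fun (T.adj_ent (S.ov.le hh) x x) w
          rw [← hM, hadj, LinearMap.neg_apply] at h1
          show T.ent h⁻¹ x x w = -M w
          rw [h1, neg_neg]
        refine ⟨fun r => exists_cnj S hh x r, T.cnj_cnj h x, fun w => ?_, fun w hw => ?_,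
          fun w hw => ?_⟩
        · rw [Ten.cnj_apply, hci, map_neg, map_neg, map_neg]
          rfl
        · rw [LinearMap.neg_apply, neg_eq_zero, Module.End.mul_apply] at hw
          rw [Ten.cnj_apply, hci, hstab w hw, neg_zero, map_zero, map_zero]
        · simp only [LinearMap.neg_apply, map_neg, neg_neg, Module.End.mul_apply] at hw ⊢
          rw [hstab2 w hw, map_zero, neg_zero]
      obtain ⟨t, ht⟩ := coef_scalar S D hx fun g' hg' hr'' => ih' g' hg' (by
        rw [LinearMap.range_neg] at hr''; omega)
      refine hzero (neg_eq_zero.1 ?_)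
      rw [ht, show t = 0 from ?_, zero_smul]
      by_contra ht0
      have htop : LinearMap.range (t • (1 : Module.End F W)) = ⊤ := LinearMap.range_eq_top.2
        fun w => ⟨t⁻¹ • w, by
          rw [LinearMap.smul_apply, Module.End.one_apply, smul_smul, mul_inv_cancel₀ ht0, one_smul]⟩
      rw [← ht, LinearMap.range_neg] at htop
      rw [htop, finrank_top] at hle
      omega
    refine null S hg hx hx (fun w => ?_) fun w => ?_
    · obtain ⟨k, hk, he⟩ := exists_ent_adj S hg x x
      have h0 := self k hk (by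
        rw [he, T.adj_neg]
        congr 1
        exact (T.adj_mul A (T.adj A)).trans (by rw [T.adj_adj]; rfl)) (by
        rw [he, LinearMap.range_neg]
        exact lt_of_le_of_lt (finrank_range_mul_le A (T.adj A)) hr)
      rw [h0, zero_eq_neg] at he
      exact LinearMap.congr_fun he w
    · obtain ⟨k, hk, he⟩ := exists_ent_adj S (inv_mem hg) x x
      rw [show T.ent g⁻¹ x x = -T.adj A by rw [T.adj_ent (S.ov.le hg), neg_neg], T.adj_neg,
        T.adj_adj, LinearMap.neg_comp, LinearMap.comp_neg, neg_neg] at he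
      have h0 := self k hk (by
        rw [he, T.adj_neg]
        congr 1
        exact (T.adj_mul (T.adj A) A).trans (by rw [T.adj_adj]; rfl)) (by
        rw [he, LinearMap.range_neg]
        exact lt_of_le_of_lt (finrank_range_mul_le' (T.adj A) A) hr)
      rw [h0, zero_eq_neg] at he
      exact LinearMap.congr_fun he w

/-- Every entry times its adjoint is scalar. -/
theorem ent_mul_adj [Fintype F] {g : V ≃ₗ[F] V} (hg : g ∈ L) {x y : U} (hx : x ≠ 0) :
    ∃ c : F, ∀ w, T.ent g x y (T.adj (T.ent g x y) w) = c • w := by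
  set A := T.ent g x y with hA
  set P : Module.End F W := -(A ∘ₗ T.adj A) with hP
  obtain ⟨k, hk, he⟩ := exists_ent_adj S hg x y
  have hlow := low_all S hx (finrank F W) le_rfl
  have main : ∀ c : F, P = c • 1 → ∀ w, A (T.adj A w) = (-c) • w := fun c hc w => by
    have h1 := LinearMap.congr_fun hc w
    rw [hP, LinearMap.neg_apply, neg_eq_iff_eq_neg, LinearMap.comp_apply, LinearMap.smul_apply,
      Module.End.one_apply] at h1
    rw [h1, neg_smul]
  by_cases hs : finrank F (LinearMap.range P) < finrank F W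
  · exact ⟨_, main 0 (by rw [zero_smul, hP, ← he]; exact hlow k hk (by rwa [he]))⟩
  have hsurj : Function.Surjective P := LinearMap.range_eq_top.1
    (Submodule.eq_top_of_finrank_eq (le_antisymm (Submodule.finrank_le _) (not_lt.1 hs)))
  have hinj : Function.Injective P := LinearMap.injective_iff_surjective.2 hsurj
  have hAi : ∀ w, T.ctr y ((g⁻¹ : V ≃ₗ[F] V) (τ x w)) = -T.adj A w := fun w => by
    rw [T.adj_ent (S.ov.le hg), LinearMap.neg_apply, neg_neg, Ten.ent_apply]
  have D : Dat T L x (T.cnj g y) P := by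
    refine ⟨fun r => exists_cnj S hg y r, T.cnj_cnj g y, fun w => ?_, fun w hw => ?_, fun w hw => ?_⟩
    · rw [Ten.cnj_apply, hAi, map_neg, map_neg, map_neg]
      rfl
    · rw [hinj (hw.trans (map_zero P).symm)]
      simp
    · exact hinj (hw.trans (map_zero P).symm)
  obtain ⟨c, hc⟩ := coef_scalar S D hx fun g' hg' hr => hlow g' hg'
    (lt_of_lt_of_le hr (Submodule.finrank_le _))
  exact ⟨_, main c hc⟩

end Cfsg.Lib.Linear.SpOTensor
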