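import Cfsg.Agent.Lib.Linear.Alternating
import Mathlib.LinearAlgebra.BilinearForm.Properties

/-!
# A symplectic space decomposed as symplectic times orthogonal

The contraction against a vector of the symplectic factor, the entries of a linear map and the
reflections of the orthogonal factor.
-/

set_option autoImplicit false
set_option linter.unusedSectionVars false

namespace Cfsg.Lib.Linear.SpOTensor

open Module
open Cfsg.Lib.Linear

variable {F V U W : Type*} [Field F] [AddCommGroup V] [Module F V] [FiniteDimensional F V]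
  [AddCommGroup U] [Module F U] [FiniteDimensional F U]
  [AddCommGroup W] [Module F W] [FiniteDimensional F W]
  {B : LinearMap.BilinForm F V} {α : LinearMap.BilinForm F U} {β : LinearMap.BilinForm F W}
  {τ : U →ₗ[F] W →ₗ[F] V}

/-- The reflection of the second factor. -/
noncomputable def refl (β : LinearMap.BilinForm F W) (a : W) : W →ₗ[F] W :=
  LinearMap.id - (2 / β a a) • (β.flip a).smulRight a

theorem refl_apply (β : LinearMap.BilinForm F W) (a w : W) :
    refl β a w = w - (2 / β a a * β w a) • a := by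
  simp [refl, smul_smul]

/-- The space is the product of a symplectic and an orthogonal space. -/
structure Ten (B : LinearMap.BilinForm F V) (α : LinearMap.BilinForm F U)
    (β : LinearMap.BilinForm F W) (τ : U →ₗ[F] W →ₗ[F] V) : Prop where
  h2 : (2 : F) ≠ 0
  nB : B.Nondegenerate
  aB : B.IsAlt
  nα : α.Nondegenerate
  aα : α.IsAlt
  nβ : β.Nondegenerate
  sβ : ∀ x y, β x y = β y x
  pair : ∀ a x b y, B (τ a x) (τ b y) = α a b * β x y
  span : Submodule.span F (Set.range fun p : U × W => τ p.1 p.2) = ⊤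

namespace Ten

variable (T : Ten B α β τ)
include T

theorem α_self (a : U) : α a a = 0 := T.aα.self_eq_zero a

theorem α_symm (a b : U) : α a b = -α b a := (T.aα.neg_eq b a).symm

theorem B_symm (a b : V) : B a b = -B b a := (T.aB.neg_eq b a).symm

theorem exists_one {x : U} (hx : x ≠ 0) : ∃ z : U, α z x = 1 := by
  obtain ⟨y, hy⟩ : ∃ y, α y x ≠ 0 := Symp.exists_apply_ne_zero T.nα hx
  exact ⟨(α y x)⁻¹ • y, by rw [map_smul, LinearMap.smul_apply, smul_eq_mul, inv_mul_cancel₀ hy]⟩

theorem β_ext {a b : W} (h : ∀ c, β a c = β b c) : a = b := by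
  refine sub_eq_zero.1 (T.nβ.1 _ fun c => ?_)
  rw [map_sub, LinearMap.sub_apply, h, sub_self]

theorem α_ext {a b : U} (h : ∀ c, α a c = α b c) : a = b := by
  refine sub_eq_zero.1 (T.nα.1 _ fun c => ?_)
  rw [map_sub, LinearMap.sub_apply, h, sub_self]

/-- The contraction against a vector of the first factor. -/
noncomputable def ctr : U →ₗ[F] V →ₗ[F] W :=
  LinearMap.mk₂ F (fun x v => (β.toDual T.nβ).symm ((B v) ∘ₗ τ x))
    (fun x x' v => by rw [← map_add]; congr 1; ext c; simp)
    (fun t x v => by rw [← map_smul]; congr 1; ext c; simp)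
    (fun x v v' => by rw [← map_add]; congr 1; ext c; simp)
    (fun t x v => by rw [← map_smul]; congr 1; ext c; simp)

theorem β_ctr (x : U) (v : V) (w : W) : β (T.ctr x v) w = B v (τ x w) := by
  simp [ctr, LinearMap.BilinForm.apply_toDual_symm_apply]

theorem ctr_tau (x a : U) (w : W) : T.ctr x (τ a w) = α a x • w :=
  T.β_ext fun c => by rw [T.β_ctr, T.pair, map_smul, LinearMap.smul_apply, smul_eq_mul]

theorem hom_ext {X : Type*} [AddCommGroup X] [Module F X] {f g : V →ₗ[F] X}
    (h : ∀ a w, f (τ a w) = g (τ a w)) : f = g :=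
  LinearMap.ext_on T.span (by rintro _ ⟨p, rfl⟩; exact h p.1 p.2)

theorem eq_of_ctr {v v' : V} (h : ∀ u, T.ctr u v = T.ctr u v') : v = v' := by
  refine sub_eq_zero.1 (T.nB.1 _ fun u => ?_)
  have e : B (v - v') = 0 := T.hom_ext (f := B (v - v')) (g := 0) fun a x => by
    rw [← T.β_ctr, map_sub, h, sub_self, map_zero]; rfl
  rw [e, LinearMap.zero_apply]

theorem tau_inj {x : U} (hx : x ≠ 0) {w w' : W} (h : τ x w = τ x w') : w = w' := by
  obtain ⟨z, hz⟩ := T.exists_one hx
  have h1 := congrArg (T.ctr z) h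
  rw [T.ctr_tau, T.ctr_tau, T.α_symm, hz] at h1
  simpa using h1

/-- A map killing the products with the hyperplane factors through the contraction. -/
theorem map_eq_of_perp {X : Type*} [AddCommGroup X] [Module F X] {x z : U} (hz : α z x = 1)
    {f : V →ₗ[F] X} (h : ∀ u w, α u x = 0 → f (τ u w) = 0) (v : V) :
    f v = f (τ z (T.ctr x v)) := by
  refine LinearMap.congr_fun (T.hom_ext (f := f) (g := f ∘ₗ τ z ∘ₗ T.ctr x) fun a w => ?_) v
  have h1 := h (a - α a x • z) w (by simp [hz])
  rw [map_sub, LinearMap.sub_apply, map_sub, sub_eq_zero] at h1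
  rw [h1, LinearMap.comp_apply, LinearMap.comp_apply, T.ctr_tau]
  simp

theorem eq_zero_of_perp {X : Type*} [AddCommGroup X] [Module F X] {x : U} (hx : x ≠ 0)
    {f : V →ₗ[F] X} (h : ∀ u w, α u x = 0 → f (τ u w) = 0) {v : V} (hv : T.ctr x v = 0) :
    f v = 0 := by
  obtain ⟨z, hz⟩ := T.exists_one hx
  rw [T.map_eq_of_perp hz h, hv, map_zero, map_zero]

/-- A vector killed by the hyperplane contractions lies on the line. -/
theorem mem_line {x z : U} (hz : α z x = 1) {y : V} (h : ∀ u, α u x = 0 → T.ctr u y = 0) :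
    y = -τ x (T.ctr z y) := by
  refine T.eq_of_ctr fun u => ?_
  have h1 := h (u - α u x • z) (by simp [hz])
  rw [map_sub, LinearMap.sub_apply, map_smul, LinearMap.smul_apply, sub_eq_zero] at h1
  rw [h1, map_neg, T.ctr_tau, T.α_symm x u, neg_smul, neg_neg]

/-- The entry of a map at two vectors of the first factor. -/
noncomputable def ent (g : V ≃ₗ[F] V) (u v : U) : W →ₗ[F] W :=
  T.ctr u ∘ₗ (g : V →ₗ[F] V) ∘ₗ τ v

theorem ent_apply (g : V ≃ₗ[F] V) (u v : U) (w : W) :
    T.ent g u v w = T.ctr u (g (τ v w)) := rfl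

/-- The adjoint for the form of the second factor. -/
noncomputable def adj (φ : W →ₗ[F] W) : W →ₗ[F] W :=
  (β.toDual T.nβ).symm.toLinearMap ∘ₗ φ.dualMap ∘ₗ (β.toDual T.nβ).toLinearMap

theorem β_adj (φ : W →ₗ[F] W) (a b : W) : β (T.adj φ a) b = β a (φ b) := by
  simp [adj, LinearMap.BilinForm.apply_toDual_symm_apply, LinearMap.BilinForm.toDual_def]

theorem β_adj' (φ : W →ₗ[F] W) (a b : W) : β a (T.adj φ b) = β (φ a) b := by
  rw [T.sβ, T.β_adj, T.sβ]

theorem adj_eq {φ ψ : W →ₗ[F] W} (h : ∀ a b, β (ψ a) b = β a (φ b)) : T.adj φ = ψ :=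
  LinearMap.ext fun a => T.β_ext fun c => by rw [T.β_adj, h]

theorem adj_adj (φ : W →ₗ[F] W) : T.adj (T.adj φ) = φ :=
  T.adj_eq fun a b => (T.β_adj' φ a b).symm

theorem adj_one : T.adj 1 = 1 := T.adj_eq fun _ _ => rfl

theorem adj_add (φ ψ : W →ₗ[F] W) : T.adj (φ + ψ) = T.adj φ + T.adj ψ :=
  T.adj_eq fun a b => by simp [T.β_adj]

theorem adj_smul (t : F) (φ : W →ₗ[F] W) : T.adj (t • φ) = t • T.adj φ :=
  T.adj_eq fun a b => by simp [T.β_adj]

theorem adj_mul (φ ψ : Module.End F W) : T.adj (φ * ψ) = T.adj ψ * T.adj φ :=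
  T.adj_eq fun a b => by simp [T.β_adj]

theorem adj_neg (φ : W →ₗ[F] W) : T.adj (-φ) = -T.adj φ := by
  rw [← neg_one_smul F, T.adj_smul, neg_one_smul]

theorem adj_sub (φ ψ : W →ₗ[F] W) : T.adj (φ - ψ) = T.adj φ - T.adj ψ := by
  rw [sub_eq_add_neg, T.adj_add, T.adj_neg, ← sub_eq_add_neg]

theorem inv_act {g : V ≃ₗ[F] V} (v : V) : (g⁻¹ : V ≃ₗ[F] V) (g v) = v := g.symm_apply_apply v

theorem act_inv {g : V ≃ₗ[F] V} (v : V) : g ((g⁻¹ : V ≃ₗ[F] V) v) = v := g.apply_symm_apply v

theorem B_act_left {g : V ≃ₗ[F] V} (hg : g ∈ Symp.iso B) (u v : V) :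
    B (g u) v = B u ((g⁻¹ : V ≃ₗ[F] V) v) := by
  conv_lhs => rw [← T.act_inv (g := g) v]
  exact hg _ _

theorem adj_ent {g : V ≃ₗ[F] V} (hg : g ∈ Symp.iso B) (u v : U) :
    T.adj (T.ent g u v) = -T.ent g⁻¹ v u :=
  T.adj_eq fun a b => by
    rw [LinearMap.neg_apply, map_neg, LinearMap.neg_apply, ent_apply, T.β_ctr, ent_apply,
      T.sβ a, T.β_ctr, T.B_act_left hg, T.B_symm (τ v b)]

/-- The contraction of an image when the line is stable. -/
theorem ctr_act {g : V ≃ₗ[F] V} (hg : g ∈ Symp.iso B) {x : U} {A : W →ₗ[F] W}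
    (hA : ∀ w, g (τ x w) = τ x (A w)) (v : V) : T.adj A (T.ctr x (g v)) = T.ctr x v :=
  T.β_ext fun c => by rw [T.β_adj, T.β_ctr, T.β_ctr, ← hA, hg]

theorem ctr_act' {g : V ≃ₗ[F] V} (hg : g ∈ Symp.iso B) {x : U}
    (hA : ∀ w, g (τ x w) = τ x w) (v : V) : T.ctr x (g v) = T.ctr x v := by
  simpa [T.adj_one] using T.ctr_act (A := 1) hg hA v

theorem refl_iso {a : W} (ha : β a a ≠ 0) (u w : W) : β (refl β a u) (refl β a w) = β u w := by
  simp only [refl_apply, map_sub, map_smul, LinearMap.sub_apply, LinearMap.smul_apply, smul_eq_mul,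
    T.sβ a w]
  field_simp
  ring

theorem refl_refl {a : W} (ha : β a a ≠ 0) (w : W) : refl β a (refl β a w) = w := by
  simp only [refl_apply, map_sub, map_smul, LinearMap.sub_apply, LinearMap.smul_apply, smul_eq_mul]
  match_scalars <;> field_simp <;> ring

theorem refl_self {a : W} (ha : β a a ≠ 0) : refl β a a = -a := by
  rw [refl_apply, div_mul_cancel₀ _ ha, two_smul]
  abel

theorem adj_refl {a : W} (ha : β a a ≠ 0) : T.adj (refl β a) = refl β a :=
  T.adj_eq fun u w => by
    conv_rhs => rw [← T.refl_refl ha u, T.refl_iso ha]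

/-- There is an anisotropic vector. -/
theorem exists_aniso (hk : 0 < finrank F W) : ∃ a : W, β a a ≠ 0 := by
  by_contra hc
  push Not at hc
  obtain ⟨w, hw⟩ : ∃ w : W, w ≠ 0 := by
    by_contra h
    push Not at h
    have : Subsingleton W := ⟨fun a b => by rw [h a, h b]⟩
    rw [finrank_zero_of_subsingleton] at hk
    omega
  refine hw (T.nβ.1 w fun c => ?_)
  have h1 := hc (w + c)
  rw [map_add, map_add, LinearMap.add_apply, LinearMap.add_apply, hc, hc, T.sβ c w] at h1
  have h3 : (2 : F) * β w c = 0 := by linear_combination h1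
  exact (mul_eq_zero.1 h3).resolve_left T.h2

/-- A map vanishing at anisotropic vectors vanishes. -/
theorem eq_zero_of_aniso {X : Type*} [AddCommGroup X] [Module F X] (hk : 0 < finrank F W)
    {f : W →ₗ[F] X} (h : ∀ a, β a a ≠ 0 → f a = 0) : f = 0 := by
  obtain ⟨a, ha⟩ := T.exists_aniso hk
  refine LinearMap.ext fun w => ?_
  rw [LinearMap.zero_apply]
  by_cases hw : β w w = 0
  swap
  · exact h w hw
  by_cases hp : β (w + a) (w + a) = 0
  · have h1 : β (w - a) (w - a) ≠ 0 := fun hm => by
      refine mul_ne_zero T.h2 ha ?_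
      simp only [map_add, map_sub, LinearMap.add_apply, LinearMap.sub_apply, hw] at hp hm
      linear_combination hp + hm
    have h2 := h _ h1
    rwa [map_sub, h a ha, sub_zero] at h2
  · have h2 := h _ hp
    rwa [map_add, h a ha, add_zero] at h2

/-- A map commuting with all reflections is scalar. -/
theorem scalar_of_comm (hk : 3 ≤ finrank F W) {φ : W →ₗ[F] W}
    (h : ∀ a, β a a ≠ 0 → ∀ w, φ (refl β a w) = refl β a (φ w)) : ∃ t : F, φ = t • 1 := by
  have he : ∀ a, β a a ≠ 0 → φ a = (β (φ a) a / β a a) • a := by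
    intro a ha
    have h1 := h a ha a
    rw [T.refl_self ha, map_neg, refl_apply] at h1
    have h3 : (2 : F) • φ a = (2 / β a a * β (φ a) a) • a := by
      rw [two_smul]
      linear_combination (norm := module) -h1
    have h4 := congrArg (fun u => (2 : F)⁻¹ • u) h3
    simp only [smul_smul, inv_mul_cancel₀ T.h2, one_smul] at h4
    conv_lhs => rw [h4]
    congr 1
    field_simp [T.h2]
  obtain ⟨a, ha⟩ := T.exists_aniso (by omega)
  refine ⟨β (φ a) a / β a a, sub_eq_zero.1 (T.eq_zero_of_aniso (by omega) fun b hb => ?_)⟩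
  set s := β (φ a) a / β a a
  -- non-orthogonal anisotropic vectors have the same eigenvalue
  have key : ∀ c d, β c c ≠ 0 → β d d ≠ 0 → β d c ≠ 0 →
      β (φ d) d / β d d = β (φ c) c / β c c := by
    intro c d hc hd hdc
    have h1 := h c hc d
    rw [refl_apply, refl_apply, map_sub, map_smul, he c hc, he d hd, map_smul,
      LinearMap.smul_apply, smul_eq_mul] at h1
    set u := β (φ d) d / β d d
    set v := β (φ c) c / β c c
    have h3 : ((2 / β c c * β d c) * (u - v)) • c = 0 := by
      linear_combination (norm := module) h1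
    rcases smul_eq_zero.1 h3 with h4 | h4
    · refine sub_eq_zero.1 ((mul_eq_zero.1 h4).resolve_left ?_)
      exact mul_ne_zero (div_ne_zero T.h2 hc) hdc
    · exact absurd (by rw [h4]; simp) hc
  have eb : φ b = (β (φ b) b / β b b) • b := he b hb
  rw [LinearMap.sub_apply, LinearMap.smul_apply, Module.End.one_apply, eb, sub_eq_zero]
  congr 1
  by_cases hab : β b a = 0
  swap
  · exact key a b ha hb hab
  -- a third vector not orthogonal to both
  obtain ⟨d, hd, hda, hdb⟩ : ∃ d, β d d ≠ 0 ∧ β d a ≠ 0 ∧ β b d ≠ 0 := by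
    have hba : β a b = 0 := by rw [T.sβ, hab]
    by_cases hs : β a a + β b b = 0
    swap
    · exact ⟨a + b, by simpa [hab, hba] using hs, by simpa [hab] using ha, by simpa [hab] using hb⟩
    obtain ⟨e, hea, heb, hee⟩ : ∃ e, β e a = 0 ∧ β e b = 0 ∧ β e e ≠ 0 := by
      let π : W →ₗ[F] W := LinearMap.id - (β.flip ((β a a)⁻¹ • a)).smulRight a -
        (β.flip ((β b b)⁻¹ • b)).smulRight b
      have hπa : ∀ u, β (π u) a = 0 := fun u => by
        simp [π, hab]
        field_simp
        ring
      have hπb : ∀ u, β (π u) b = 0 := fun u => by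
        simp [π, hba]
        field_simp
        ring
      by_contra hno
      push Not at hno
      have hπ0 : ∀ u, β (π u) (π u) = 0 := fun u => hno _ (hπa u) (hπb u)
      have hπz : π = 0 := LinearMap.ext fun u => T.β_ext fun c => by
        have h1 := hπ0 (u + c)
        simp only [map_add, LinearMap.add_apply, hπ0, T.sβ (π c) (π u), zero_add, add_zero] at h1
        have h3 : β (π u) (π c) = 0 := (mul_eq_zero.1 (show (2 : F) * β (π u) (π c) = 0 by
          linear_combination h1)).resolve_left T.h2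
        have e : π c = c - (β c ((β a a)⁻¹ • a)) • a - (β c ((β b b)⁻¹ • b)) • b := by simp [π]
        rw [e] at h3
        simp only [map_sub, map_smul, hπa, hπb, smul_eq_mul, mul_zero, sub_zero] at h3
        rw [h3, LinearMap.zero_apply, map_zero, LinearMap.zero_apply]
      have hle : finrank F W ≤ 2 := by
        classical
        have hsp : (⊤ : Submodule F W) ≤ Submodule.span F (({a, b} : Finset W) : Set W) := by
          intro u _
          have e := LinearMap.congr_fun hπz u
          simp only [π, LinearMap.sub_apply, LinearMap.id_apply, LinearMap.smulRight_apply,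
            LinearMap.zero_apply, sub_eq_zero] at e
          rw [sub_eq_iff_eq_add] at e
          rw [e, Finset.coe_insert, Finset.coe_singleton]
          exact add_mem
            (Submodule.smul_mem _ _ (Submodule.subset_span (Set.mem_insert_of_mem _ rfl)))
            (Submodule.smul_mem _ _ (Submodule.subset_span (Set.mem_insert _ _)))
        have := Submodule.finrank_mono hsp
        rw [finrank_top] at this
        exact this.trans ((finrank_span_finset_le_card _).trans Finset.card_le_two)
      omega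
    have hae : β a e = 0 := by rw [T.sβ, hea]
    have hbe : β b e = 0 := by rw [T.sβ, heb]
    refine ⟨a + b + e, ?_, by simpa [hab, hea] using ha, by simpa [hab, hbe] using hb⟩
    simpa [hab, hba, hea, heb, hae, hbe, hs] using hee
  rw [key d b hd hb hdb, key a d ha hd hda]

end Ten

end Cfsg.Lib.Linear.SpOTensor
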